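/-
In a finite solvable group with `O_2 = O_3 = 1`, a subgroup acting quadratically on the Fitting
subgroup lies in it; hence a subgroup `A` normalized by `F(G)` with `C_{F(G)}(A) ≤ A` satisfies
`C_G(A) ≤ A`.
-/
import Cfsg.Agent.Grp.QuadStable
import Cfsg.Agent.Grp.Coprime2
import Cfsg.Agent.Loc.Chief

set_option autoImplicit false

open Cfsg Subgroup CL.Grp

namespace CL.Loc

variable {G : Type*} [Group G] [Finite G]

/-- A `q`-subgroup lying in `O_p(G mod C(O_p(G)))` for every prime `p` lies in `F(G)`, provided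
`C(F(G)) ≤ F(G)`. -/
theorem le_fitting_of_le_stabCore (hF : centralizer (fittingSubgroup G : Set G) ≤ fittingSubgroup G)
    {C : Subgroup G} (h : ∀ (p : ℕ) [Fact p.Prime], C ≤ stabCore p (pCore p G)) :
    C ≤ fittingSubgroup G := by
  refine le_of_forall_exists_isSylowIn_le fun q hq _ => ?_
  have := Fact.mk hq
  obtain ⟨P, hP⟩ := exists_isSylowIn q C
  refine ⟨P, hP, ?_⟩
  let K : Subgroup G := stabCore q (pCore q G) ⊓
    ⨅ p : {p : Nat.Primes // (p : ℕ) ≠ q}, centralizer (pCore (p.1 : ℕ) G : Set G)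
  have hKn : K.Normal := normal_inf_normal _ _ (hK := normal_iInf_normal fun _ => inferInstance)
  have hK : ∀ k ∈ K, ∀ (p : ℕ), p.Prime → p ≠ q → k ∈ centralizer (pCore p G : Set G) :=
    fun k hk p hp hne => mem_iInf.1 hk.2 ⟨⟨p, hp⟩, hne⟩
  have hPK : P ≤ K := by
    refine le_inf (hP.le.trans (h q)) (le_iInf fun p => fun x hx => ?_)
    have := Fact.mk p.1.2
    refine mem_centralizer_of_mem_stabCore (h p.1 (hP.le hx)) ?_
    exact (coprime_card_of_isPGroup hP.isPGroup
      ((Nat.coprime_primes p.1.2 hq).2 p.2)).coprime_dvd_left (P.orderOf_dvd_natCard hx)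
  refine hPK.trans (le_fittingSubgroup ?_)
  have hq' : IsPGroup q (K ⧸ center K) := by
    intro x
    obtain ⟨k, rfl⟩ := QuotientGroup.mk_surjective x
    obtain ⟨n, hn⟩ := exists_pow_orderOf_coprime q (k : G)
    refine ⟨n, ?_⟩
    rw [← QuotientGroup.mk_pow, QuotientGroup.eq_one_iff]
    have hy : (k : G) ^ q ^ n ∈ K := pow_mem k.2 _
    have h1 : (k : G) ^ q ^ n ∈ fittingSubgroup G := by
      apply hF
      rw [← zpowers_le, le_centralizer_iff]
      refine fittingSubgroup_le_of_forall_pCore_le fun p hp => ?_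
      rw [le_centralizer_iff, zpowers_le]
      by_cases hpq : p = q
      · subst hpq; exact mem_centralizer_of_mem_stabCore hy.1 hn
      · exact hK _ hy p hp.out hpq
    have h2 : zpowers ((k : G) ^ q ^ n) ≤ centralizer (K : Set G) := by
      refine le_of_forall_exists_isSylowIn_le fun r hr hd => ?_
      have := Fact.mk hr
      obtain ⟨R, hR⟩ := exists_isSylowIn r (zpowers ((k : G) ^ q ^ n))
      refine ⟨R, hR, (le_pCore_of_le_fittingSubgroup hR.isPGroup
        (hR.le.trans ((zpowers_le).2 h1))).trans ?_⟩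
      rw [le_centralizer_iff]
      refine fun g hg => hK g hg r hr ?_
      rintro rfl
      rw [Nat.card_zpowers] at hd
      exact (hr.coprime_iff_not_dvd.1 hn.symm) hd
    rw [mem_center_iff]
    exact fun g => Subtype.ext (h2 (mem_zpowers _) g g.2)
  exact Group.of_quotient_center_nilpotent hq'.isNilpotent

theorem le_fitting_of_quadratic [Group.IsSolvable G] (h2 : pCore 2 G = ⊥) (h3 : pCore 3 G = ⊥)
    {C : Subgroup G} (hq : ⁅⁅fittingSubgroup G, C⁆, C⁆ = ⊥) : C ≤ fittingSubgroup G := by
  refine le_fitting_of_le_stabCore (centralizer_fittingSubgroup_le G) fun p hp => ?_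
  by_cases h : pCore p G = ⊥
  · refine le_trans ?_ (centralizer_le_stabCore _)
    rw [le_centralizer_iff, h]; exact bot_le
  · refine IsPStableOn.le_stabCore (isPStableOn_of_isSolvable (by rintro rfl; exact h h2)
      inferInstance (by rintro rfl; exact absurd h3 h) _ (pCore_isPGroup p G)) ?_
    exact eq_bot_iff.2 ((commutator_mono (commutator_mono (pCore_le_fittingSubgroup p) le_rfl)
      le_rfl).trans hq.le)

theorem centralizer_le_of_fitting_scn [Group.IsSolvable G] (h2 : pCore 2 G = ⊥) (h3 : pCore 3 G = ⊥)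
    {A : Subgroup G} (hn : fittingSubgroup G ≤ normalizer (A : Set G))
    (hc : fittingSubgroup G ⊓ centralizer (A : Set G) ≤ A) : centralizer (A : Set G) ≤ A := by
  have h0 : ⁅A, centralizer (A : Set G)⁆ = ⊥ := by
    rw [commutator_comm, commutator_eq_bot_iff_le_centralizer]
  have h1 : ⁅⁅centralizer (A : Set G), fittingSubgroup G⁆, A⁆ = ⊥ := by
    refine commutator_commutator_eq_bot_of_rotate ?_ (by rw [h0, commutator_bot_left])
    exact eq_bot_iff.2 ((commutator_mono (le_normalizer_iff_commutator_le_right.1 hn) le_rfl).trans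
      h0.le)
  have h4 : ⁅fittingSubgroup G, centralizer (A : Set G)⁆ ≤ A := by
    refine le_trans (le_inf (commutator_le_left _ _) ?_) hc
    rw [← commutator_eq_bot_iff_le_centralizer, commutator_comm (fittingSubgroup G)]; exact h1
  exact (le_inf (le_fitting_of_quadratic h2 h3
    (eq_bot_iff.2 ((commutator_mono h4 le_rfl).trans h0.le))) le_rfl).trans hc

end CL.Loc
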