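/-
Intrinsic 2-components with one involution (helper32), part 1: quaternion facts and small lemmas.
-/
import Cfsg.Agent.Loc.PTerm
import Cfsg.Agent.K.Bal1
import Cfsg.Agent.K.Bal2
import Cfsg.Agent.Gold.GSimple
import Cfsg.Agent.Transfer.Control
import Cfsg.Agent.Grp.PGroupCyc
import Cfsg.Agent.Grp.Zipper
import Cfsg.Agent.S0219

set_option autoImplicit false
set_option linter.unusedSectionVars false
open Cfsg Subgroup CL.Even CL.Grp CL.Loc
open scoped commutatorElement Pointwise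

namespace CL.CI

section elem

variable {G : Type*} [Group G]

theorem inv_eq_of_sq {x z : G} (h : x * x = z) (hz : z * z = 1) : x⁻¹ = x * z :=
  inv_eq_of_mul_eq_one_right (by rw [← mul_assoc, h, hz])

theorem inv_self {z : G} (hz : z * z = 1) : z⁻¹ = z := inv_eq_of_mul_eq_one_right hz

theorem cj_sq {g x z : G} (h : x * x = z) : g * x * g⁻¹ * (g * x * g⁻¹) = g * z * g⁻¹ := by
  rw [← h]; group

theorem pow_four {x z : G} (h : x * x = z) (hz : z * z = 1) : x ^ 2 ^ 2 = 1 := by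
  rw [show (2 : ℕ) ^ 2 = 2 * 2 from rfl, pow_mul, pow_two x, h, pow_two, hz]

/-- Two involutions with product of odd order are conjugate. -/
theorem exists_conj_odd {r s : G} (hr : r * r = 1) (hs : s * s = 1) (ho : (orderOf (s * r)).Coprime 2) :
    ∃ g ∈ zpowers (s * r), g * r * g⁻¹ = s := by
  obtain ⟨k, hk⟩ : Odd (orderOf (s * r)) := Nat.coprime_two_right.1 ho
  have e : r * (s * r)⁻¹ * r⁻¹ = s * r := by
    rw [mul_inv_rev, inv_self hs, mul_inv_cancel_left, inv_self hr]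
  refine ⟨(s * r) ^ (k + 1), pow_mem (mem_zpowers _) _, ?_⟩
  have e2 : r * ((s * r) ^ (k + 1))⁻¹ * r⁻¹ = (s * r) ^ (k + 1) := by
    rw [← inv_pow, ← conj_pow, e]
  have e3 : (s * r) ^ (2 * k + 1) = 1 := by rw [← hk, pow_orderOf_eq_one]
  calc _ = (s * r) ^ (k + 1) * (r * ((s * r) ^ (k + 1))⁻¹ * r⁻¹) * r := by group
    _ = (s * r) ^ (2 * k + 1) * (s * (r * r)) := by
      rw [e2, ← pow_add, show k + 1 + (k + 1) = 2 * k + 1 + 1 by ring, pow_succ]; group
    _ = s := by rw [e3, hr]; group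

end elem

theorem quat_type {X : Type*} [Group X] [Finite X] [hp : Group.IsPerfect X] {z : X} (z2 : z * z = 1) (z1 : z ≠ 1)
    (hu : ∀ a : X, a * a = 1 → a = 1 ∨ a = z) (P : Sylow 2 X) :
    (∃ x ∈ P, x * x = z) ∧ (∀ x ∈ P, x * x = z → ∃ w ∈ P, w * x * w⁻¹ = x⁻¹) ∧
      ∀ x y : X, x * x = z → y * y = z → IsConj x y := by
  have hi : ∀ N : Subgroup X, N.index ≠ 2 := fun N hN => by
    have := normal_of_index_eq_two hN
    have : IsCyclic (X ⧸ N) := isCyclic_of_prime_card (p := 2) hN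
    have h1 : commutator X ≤ N := Subgroup.Normal.quotient_commutative_iff_commutator_le.1 inferInstance
    rw [hp.commutator_eq_top, top_le_iff] at h1
    rw [h1, index_top] at hN
    omega
  have zc : ∀ g, g * z * g⁻¹ = z := fun g => (hu _ (by rw [cj_sq z2]; group)).resolve_left fun e =>
    z1 (conj_eq_one_iff.1 e)
  have oz : orderOf z = 2 := orderOf_eq_prime ((pow_two z).trans z2) z1
  obtain hc | ⟨-, n, a, b, h, hb, hab⟩ := isCyclic_or_quaternion_of_forall_ea (p := 2) P.isPGroup' fun E hE h4 => by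
    have : Nat.card E ≤ Nat.card Bool := by
      classical
      refine Nat.card_le_card_of_injective (fun e : E => decide (((e : P) : X) = 1)) fun e f hef => ?_
      have k : ∀ e : E, ((e : P) : X) = 1 ∨ ((e : P) : X) = z := fun e =>
        hu _ (by rw [← pow_two]; exact congrArg Subtype.val (hE.2 e e.2))
      refine Subtype.ext (Subtype.ext ?_)
      rcases k e with h1 | h1 <;> rcases k f with h2 | h2 <;> simp_all
    rw [h4, Nat.card_eq_fintype_card, Fintype.card_bool] at this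
    omega
  · obtain ⟨N, hN⟩ := Cfsg.Agent.S0219.result (even_iff_two_dvd.2 (oz ▸ orderOf_dvd_natCard z)) P hc
    exact (hi N hN).elim
  obtain ⟨m, rfl⟩ : ∃ m, n = m + 2 := ⟨n - 2, by have := h.two_le; omega⟩
  have o := h.orderOf_z
  simp only [show m + 2 - 1 = m + 1 from rfl] at hb o
  set c : P := a ^ 2 ^ m with hc
  have c2 : c * c = a ^ 2 ^ (m + 1) := by rw [hc, ← pow_add, ← two_mul, ← pow_succ']
  have hz : (c : X) * c = z := (hu _ (by
    rw [← Subgroup.coe_mul, c2, ← Subgroup.coe_mul, ← pow_two, orderOf_dvd_iff_pow_eq_one.1 o.dvd]; rfl)).resolve_left fun e => by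
      rw [← Subgroup.coe_mul, c2, OneMemClass.coe_eq_one] at e
      rw [e, orderOf_one] at o
      omega
  have bi : ∀ i : ℤ, b * a ^ i * b⁻¹ = (a ^ i)⁻¹ := fun i => by rw [← conj_zpow, hab, inv_zpow]
  have bc : (b : X) * c * (b : X)⁻¹ = (c : X)⁻¹ := by
    have := bi (2 ^ m : ℕ)
    rw [zpow_natCast] at this
    exact congrArg Subtype.val this
  refine ⟨⟨c, c.2, hz⟩, fun x hx x2 => ?_, ?_⟩
  · obtain ⟨i, e | e⟩ := h.elt ⟨x, hx⟩
    · exact ⟨b, b.2, by have := congrArg Subtype.val (bi i); rwa [← e] at this⟩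
    · refine ⟨c, c.2, ?_⟩
      have e1 : x = (a : X) ^ i * b := congrArg Subtype.val e
      have e2 : Commute (c : X) ((a : X) ^ i) := ((Commute.refl (a : X)).pow_left (2 ^ m)).zpow_right i
      have e3 : (b : X) * (c : X)⁻¹ * (b : X)⁻¹ = c := by rw [← conj_inv, bc, inv_inv]
      rw [inv_eq_of_sq x2 z2]
      calc _ = c * (a : X) ^ i * (b * (c : X)⁻¹ * (b : X)⁻¹) * b := by rw [e1]; group
        _ = (a : X) ^ i * b * ((b : X)⁻¹ * z * (b : X)⁻¹⁻¹) := by rw [e2.eq, e3, ← hz]; group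
        _ = _ := by rw [zc, e1]
  have key : ∀ x : X, x * x = z → IsConj x c := fun x x2 => by
    by_contra hn
    have hM : ((zpowers a).map (P : Subgroup X).subtype).relIndex P = 2 := by
      rw [relIndex, subgroupOf, comap_map_eq_self_of_injective (subtype_injective _), h.index]
    have x4 : ∀ k : ℕ, x ^ (2 * k) = 1 ∨ x ^ (2 * k) = z := fun k => hu _ (by
      rw [← pow_add, show 2 * k + 2 * k = 2 ^ 2 * k by ring, pow_mul, pow_four x2 z2, one_pow])
    obtain ⟨N, -, hN, -⟩ := CL.Transfer.thompson_transfer_general (P : Subgroup X) _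
      (Nat.odd_iff.2 (Nat.two_dvd_ne_zero.1 P.not_dvd_index)) hM x
      (fun k g ⟨j, hj⟩ ⟨y, hy, e⟩ => hn (by
        obtain ⟨i, rfl⟩ := mem_zpowers_iff.1 hy
        have e2 : Commute ((a : X) ^ i) c := (((Commute.refl (a : X)).pow_left (2 ^ m)).zpow_right i).symm
        have e0 : (a : X) ^ i = g⁻¹ * x ^ k * g⁻¹⁻¹ := by rw [inv_inv]; exact e
        have hk : x ^ k * x ^ k = z := by
          rw [hj, pow_succ, ((Commute.refl x).pow_left _).symm.mul_mul_mul_comm, x2]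
          rcases x4 j with e | e <;> rw [e]
          · group
          · rw [z2, one_mul]
        have e1 : (a : X) ^ i * (a : X) ^ i = z := by rw [e0, cj_sq hk, zc]
        have e3 := hu ((a : X) ^ i * c) (by rw [e2.symm.mul_mul_mul_comm, e1, hz, z2])
        have e4 : IsConj ((a : X) ^ i) c := by
          rcases e3 with e3 | e3
          · rw [eq_inv_of_mul_eq_one_left e3]; exact (isConj_iff.2 ⟨(b : X), bc⟩).symm
          · rw [mul_right_cancel (e3.trans hz.symm)]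
        have e5 : IsConj x (x ^ k) ∨ IsConj x⁻¹ (x ^ k) := by
          rw [hj, pow_succ]
          rcases x4 j with e | e <;> rw [e]
          · left; rw [one_mul]
          · right; rw [inv_eq_of_sq x2 z2, ← x2, mul_assoc]
        have e6 : IsConj (x ^ k) c := (isConj_iff.2 ⟨g⁻¹, e0.symm⟩).trans e4
        rcases e5 with e5 | e5
        · exact e5.trans e6
        · obtain ⟨l, hl⟩ := isConj_iff.1 (e5.trans e6)
          exact isConj_iff.2 ⟨(b : X)⁻¹ * l, by
            rw [← conj_inv] at hl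
            calc _ = (b : X)⁻¹ * (l * x * l⁻¹) * b := by group
              _ = _ := by rw [inv_eq_iff_eq_inv.1 hl, ← bc]; group⟩))
      fun k g ⟨j, hj⟩ _ => by
        rw [hj, ← two_mul]
        rcases x4 j with e | e <;> rw [e]
        · simpa using one_mem _
        · have := zc g⁻¹
          rw [inv_inv] at this
          rw [this, ← hz]
          exact ⟨c * c, mul_mem (pow_mem (mem_zpowers a) _) (pow_mem (mem_zpowers a) _), rfl⟩
    exact hi N hN
  exact fun x y x2 y2 => (key x x2).trans (key y y2).symm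

variable {G : Type*} [Group G] [Finite G]

/-- `2`-elements -/
def T2 (a : G) : Prop := ∃ k : ℕ, a ^ 2 ^ k = 1

theorem t2_of_mem {S : Subgroup G} (hS : IsPGroup 2 S) {a : G} (ha : a ∈ S) : T2 a := isPGroup_iff_forall.1 hS a ha

theorem T2.pg {a : G} (h : T2 a) : IsPGroup 2 (zpowers a) := let ⟨_, e⟩ := h; isPGroup_zpowers e

theorem t2_of_sq {a : G} (h : a * a = 1) : T2 a := ⟨1, by rw [pow_one, pow_two, h]⟩

theorem T2.conj {a : G} (h : T2 a) (g : G) : T2 (g * a * g⁻¹) :=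
  let ⟨k, e⟩ := h; ⟨k, by rw [conj_pow, e]; group⟩

theorem mem_cent {g z : G} : g ∈ centralizer ({z} : Set G) ↔ Commute g z := mem_centralizer_singleton_iff

theorem comm_of_cpc {S J : Subgroup G} (hS : IsPGroup 2 S) {a b : G} (ha : a ∈ S) (hb : b ∈ S)
    (h1 : a ∈ cpc 2 J) (h2 : b ∈ J) : Commute a b :=
  commutatorElement_eq_one_iff_commute.1 (eq_one_of_coprime_of_mem hS
    (coprime_orderOf_of_mem (pPrimeCoreOf_coprime 2 J) (h1.2 b h2))
    (mul_mem (mul_mem (mul_mem ha hb) (inv_mem ha)) (inv_mem hb)))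

theorem cj_mem_cpc {J : Subgroup G} {g a : G} : g * a * g⁻¹ ∈ cpc 2 (cj g J) ↔ a ∈ cpc 2 J := by
  rw [← cj_cpc, mem_cj]; simp [mul_assoc]

theorem cj_mem_norm {J : Subgroup G} {g a : G} : g * a * g⁻¹ ∈ 𝒩(cj g J) ↔ a ∈ 𝒩(J) := by
  rw [← cj_norm, mem_cj]; simp [mul_assoc]

/-- `J / O(J)` is quasisimple and `z` is the only involution of `J`. -/
structure UI (J : Subgroup G) (z : G) : Prop where
  quasi : IsPQuasi 2 J
  mem : z ∈ J
  sq : z * z = 1
  ne : z ≠ 1
  uniq : ∀ a ∈ J, a * a = 1 → a = 1 ∨ a = z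

namespace UI

variable {J Q : Subgroup G} {z t x y a b g : G} (h : UI J z)
include h

theorem quat (hQ : IsSylowIn 2 Q J) : (∃ x ∈ Q, x * x = z) ∧ (∀ x ∈ Q, x * x = z → ∃ w ∈ Q, w * x * w⁻¹ = x⁻¹) ∧
    ∀ x ∈ J, ∀ y ∈ J, x * x = z → y * y = z → ∃ j ∈ J, j * x * j⁻¹ = y := by
  have := Subgroup.isPerfect_iff.mpr h.quasi.perfect
  obtain ⟨⟨x, hx, x2⟩, h2, h3⟩ := quat_type (z := (⟨z, h.mem⟩ : J)) (Subtype.ext h.sq)
    (fun e => h.ne (congrArg Subtype.val e))
    (fun a e => (h.uniq a a.2 (congrArg Subtype.val e)).imp Subtype.ext Subtype.ext) hQ.toSylow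
  refine ⟨⟨x, hx, congrArg Subtype.val x2⟩, fun x hx x2 => ?_, fun x hx y hy x2 y2 => ?_⟩
  · obtain ⟨w, hw, e⟩ := h2 ⟨x, hQ.le hx⟩ hx (Subtype.ext x2)
    exact ⟨w, hw, congrArg Subtype.val e⟩
  · obtain ⟨j, e⟩ := isConj_iff.1 (h3 ⟨x, hx⟩ ⟨y, hy⟩ (Subtype.ext x2) (Subtype.ext y2))
    exact ⟨j, j.2, congrArg Subtype.val e⟩

theorem conj4 (hx : x ∈ J) (hy : y ∈ J) (x2 : x * x = z) (y2 : y * y = z) : ∃ j ∈ J, j * x * j⁻¹ = y :=
  let ⟨_, hQ⟩ := exists_isSylowIn (p := 2) J; (h.quat hQ).2.2 x hx y hy x2 y2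

theorem cz (hg : g ∈ 𝒩(J)) : g * z * g⁻¹ = z :=
  (h.uniq _ (conj_mem hg h.mem) (by rw [cj_sq h.sq]; group)).resolve_left fun e => h.ne (conj_eq_one_iff.1 e)

theorem comm (hg : g ∈ 𝒩(J)) : Commute g z := mul_inv_eq_iff_eq_mul.1 (h.cz hg)

theorem z_cpc : z ∈ cpc 2 J := cent_le_cpc J fun _ ha => (h.comm (le_normalizer ha)).eq

theorem conj (g : G) : UI (cj g J) (g * z * g⁻¹) :=
  ⟨h.quasi.conj g, conj_mem_cj g h.mem, by rw [cj_sq h.sq]; group, fun e => h.ne (conj_eq_one_iff.1 e),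
    fun a ha a2 => (h.uniq _ (mem_cj.1 ha) (by simpa using cj_sq (g := g⁻¹) a2)).imp
      (fun e => by rw [← mul_inv_cancel_left g a, ← mul_inv_cancel_right (g * (g⁻¹ * a)) g, mul_assoc g, e]; group)
      fun e => by rw [← e]; group⟩

theorem ex_pow (ha : a ∈ J) (h2 : T2 a) (h1 : a * a ≠ 1) : ∃ n : ℕ, a ^ 2 ^ n * a ^ 2 ^ n = z := by
  obtain ⟨k, hk⟩ := h2
  induction k generalizing a with
  | zero => rw [pow_zero, pow_one] at hk; exact (h1 (by rw [hk, one_mul])).elim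
  | succ k ih =>
    by_cases e : a * a * (a * a) = 1
    · exact ⟨0, by simpa using (h.uniq _ (mul_mem ha ha) e).resolve_left h1⟩
    · obtain ⟨n, hn⟩ := ih (mul_mem ha ha) e (by rwa [← pow_two, ← pow_mul, ← pow_succ'])
      exact ⟨n + 1, by rwa [← pow_two a, ← pow_mul, ← pow_succ'] at hn⟩

theorem uq (ha : a ∈ J) (hb : b ∈ J) (c : Commute a b) (a2 : a * a = z) (b2 : b * b = z) : a = b ∨ a = b * z := by
  rcases h.uniq _ (mul_mem ha hb) (by rw [c.symm.mul_mul_mul_comm, a2, b2, h.sq]) with e | e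
  · exact Or.inr (by rw [eq_inv_of_mul_eq_one_left e, inv_eq_of_sq b2 h.sq])
  · exact Or.inl (mul_right_cancel (e.trans b2.symm))

theorem inv_ne (x2 : x * x = z) : x⁻¹ ≠ x := fun e => h.ne (by rw [← x2]; nth_rw 1 [← e]; group)

theorem sq_of_inv (ha : a ∈ J) (h2 : T2 a) (hx : x ∈ J) (x2 : x * x = z) (e : a * x * a⁻¹ = x⁻¹) : a * a = z := by
  have n : ¬ Commute a x := fun c => h.inv_ne x2 (by rw [← e, c.eq, mul_inv_cancel_right])
  have c : Commute (a * a) x := by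
    refine mul_inv_eq_iff_eq_mul.1 ?_
    calc _ = a * (a * x * a⁻¹) * a⁻¹ := by group
      _ = _ := by rw [e, ← conj_inv, e, inv_inv]
  have cz := h.comm (le_normalizer ha)
  by_cases e4 : a * a * (a * a) = 1
  · refine (h.uniq _ (mul_mem ha ha) e4).resolve_left fun e1 => n ?_
    rcases h.uniq a ha e1 with rfl | rfl
    exacts [Commute.one_left x, (h.comm (le_normalizer hx)).symm]
  · obtain ⟨k, hk⟩ := h2
    obtain ⟨m, hm⟩ := h.ex_pow (mul_mem ha ha) ⟨k, by rw [(Commute.refl a).mul_pow, hk, one_mul]⟩ e4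
    have c1 : Commute a ((a * a) ^ 2 ^ m) := ((Commute.refl a).mul_right (Commute.refl a)).pow_right _
    rcases h.uq hx (pow_mem (mul_mem ha ha) _) (c.pow_left _).symm x2 hm with e1 | e1 <;> rw [e1] at n
    exacts [(n c1).elim, (n (c1.mul_right cz)).elim]

theorem not_cpc4 (hx : x ∈ J) (x2 : x * x = z) : x ∉ cpc 2 J := fun hc => by
  obtain ⟨Q, hQ, hle⟩ := exists_isSylowIn_ge (T2.pg ⟨2, pow_four x2 h.sq⟩) (zpowers_le.2 hx)
  obtain ⟨w, hw, e⟩ := (h.quat hQ).2.1 x (hle (mem_zpowers x)) x2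
  have c := comm_of_cpc hQ.isPGroup (hle (mem_zpowers x)) hw hc (hQ.le hw)
  exact h.inv_ne x2 (by rw [← e, ← c.eq, mul_inv_cancel_right])

theorem not_cpc (ha : a ∈ J) (h2 : T2 a) (h1 : a * a ≠ 1) : a ∉ cpc 2 J := fun hc =>
  let ⟨_, e⟩ := h.ex_pow ha h2 h1; h.not_cpc4 (pow_mem ha _) e (pow_mem hc _)

/-- an involution acting nontrivially on a `2`-subgroup of `J` is fused with its product by `z` -/
theorem nk (hQ : IsPGroup 2 Q) (hle : Q ≤ J) (t2 : t * t = 1) (hn : t ∈ 𝒩(Q))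
    (hc : ¬ Q ≤ centralizer {t}) : ∃ k ∈ Q, k * t * k⁻¹ = z * t := by
  have h1 : zpowers t ≤ 𝒩(Q) := zpowers_le.2 hn
  have hR : IsPGroup 2 (Q ⊔ zpowers t : Subgroup G) := isPGroup_sup' hQ (t2_of_sq t2).pg h1
  have hlt : (Q ⊔ zpowers t) ⊓ centralizer {t} < Q ⊔ zpowers t :=
    lt_of_le_of_ne inf_le_left fun e => hc (le_sup_left.trans (e.ge.trans inf_le_right))
  obtain ⟨n, ⟨hn1, hn2⟩, hn3⟩ := SetLike.exists_of_lt (lt_inf_normalizer_of_isPGroup hR hlt)
  obtain ⟨k, hk, s, hs, rfl⟩ := (mem_sup_nl h1).1 hn1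
  have cs : Commute s t := by obtain ⟨i, rfl⟩ := mem_zpowers_iff.1 hs; exact (Commute.refl t).zpow_left i
  have e : k * s * t * (k * s)⁻¹ = k * t * k⁻¹ := by rw [mul_assoc k, cs.eq]; group
  have c : Commute (k * t * k⁻¹) t := e ▸ mem_cent.1 (conj_mem hn2 (⟨mem_sup_right (mem_zpowers t),
    mem_cent.2 (Commute.refl t)⟩ : t ∈ (Q ⊔ zpowers t) ⊓ centralizer {t})).2
  have hm : k * t * k⁻¹ * t ∈ J := by
    have := hle (mul_mem hk (conj_mem hn (inv_mem hk)))
    rwa [inv_self t2, ← mul_assoc, ← mul_assoc] at this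
  refine ⟨k, hk, ?_⟩
  rcases h.uniq _ hm (by rw [c.symm.mul_mul_mul_comm, cj_sq t2, t2]; group) with e1 | e1
  · refine (hn3 ⟨hn1, mem_cent.2 (mul_inv_eq_iff_eq_mul.1 ?_)⟩).elim
    rw [e, eq_inv_of_mul_eq_one_left e1, inv_self t2]
  · rw [← e1, mul_assoc _ t t, t2, mul_one]

/-- `Z*`: an involution centralising a Sylow subgroup of `J` centralises `J / O(J)` -/
theorem zs (hQ : IsSylowIn 2 Q J) (t2 : t * t = 1) (hn : t ∈ 𝒩(J)) (hc : Q ≤ centralizer {t}) : t ∈ cpc 2 J := by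
  have h1 : zpowers t ≤ 𝒩(J) := zpowers_le.2 hn
  have hY : J ⊔ zpowers t ≤ 𝒩(J) := sup_le le_normalizer h1
  have hz : ∀ s ∈ zpowers t, s = 1 ∨ s = t := fun s hs => (CL.Inv.mem_zpowers_of_mul_self t2).1 hs
  have h2 : zpowers t ≤ 𝒩(Q) := (le_centralizer_iff.1 (hc.trans (cent_zpowers t).ge)).trans (cent_le_norm Q)
  obtain ⟨S, hS, hle⟩ := exists_isSylowIn_ge (isPGroup_sup' hQ.isPGroup (t2_of_sq t2).pg h2)
    (sup_le_sup_right hQ.le (zpowers t))
  have hSJ : S ⊓ J = Q := hQ.eq_of_le (hS.isPGroup.to_le inf_le_left) (le_inf (le_sup_left.trans hle) hQ.le)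
    inf_le_right
  have ht : t ∈ S := hle (mem_sup_right (mem_zpowers t))
  have hSc : S ≤ centralizer {t} := fun s hs => by
    obtain ⟨j, hj, r, hr, rfl⟩ := (mem_sup_nl h1).1 (hS.le hs)
    have : j ∈ Q := hSJ ▸ ⟨by simpa using mul_mem hs (inv_mem (hle (mem_sup_right hr))), hj⟩
    exact mul_mem (hc this) ((zpowers_le.2 (mem_cent.2 (Commute.refl t))) hr)
  refine zpowers_le.1 (le_cpc_iff.2 (commutator_le.2 fun s hs j hj => ?_))
  refine pPrimeCoreOf_inf_le (le_sup_left (b := zpowers t)) ⟨CL.Gold.zstar_amb hS (zpowers_le.2 ht)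
    (fun s hs g hg hm => ?_) hs (mem_sup_left hj), J.mul_mem (conj_mem (h1 hs) hj) (J.inv_mem hj)⟩
  rcases hz s hs with rfl | rfl
  · group
  have c : Commute (g * s * g⁻¹) s := mem_cent.1 (hSc hm)
  have hm' : g * s * g⁻¹ * s ∈ J := by
    obtain ⟨j, hj, r, hr, rfl⟩ := (mem_sup_nl h1).1 hg
    have cs : Commute r s := mem_cent.1 ((zpowers_le.2 (mem_cent.2 (Commute.refl s))) hr)
    have := mul_mem hj (conj_mem hn (inv_mem hj))
    rwa [inv_self t2, show j * (s * j⁻¹ * s) = j * r * s * (j * r)⁻¹ * s by rw [mul_assoc j r, cs.eq]; group] at this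
  rcases h.uniq _ hm' (by rw [c.symm.mul_mul_mul_comm, cj_sq t2, t2]; group) with e1 | e1
  · rw [eq_inv_of_mul_eq_one_left e1, inv_self t2]
  exfalso
  have e2 : g * s * g⁻¹ = z * s := by rw [← e1, mul_assoc _ s s, t2, mul_one]
  set C := (J ⊔ zpowers s) ⊓ centralizer {s}
  have hg2 : g * g ∈ C := ⟨mul_mem hg hg, mem_cent.2 (mul_inv_eq_iff_eq_mul.1 (by
    calc _ = g * (g * s * g⁻¹) * g⁻¹ := by group
      _ = g * z * g⁻¹ * (g * s * g⁻¹) := by nth_rw 1 [e2]; group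
      _ = _ := by rw [e2, h.cz (hY hg), ← mul_assoc, h.sq, one_mul]))⟩
  have hgn : g ∈ 𝒩(C) := mem_norm_of_cj_le fun c hc' => by
    obtain ⟨h3, h4⟩ := mem_cj.1 hc'
    have h5 : c ∈ J ⊔ zpowers s := by simpa [mul_assoc] using mul_mem (mul_mem hg h3) (inv_mem hg)
    have h6 : Commute c (z * s) := by
      have := (mem_cent.1 h4).map (MulAut.conj g)
      simpa [mul_assoc, ← e2] using this
    have := (h.comm (hY h5)).inv_right.mul_right h6
    exact ⟨h5, mem_cent.2 (by simpa using this)⟩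
  have hd := hS.not_dvd_relIndex_of_le (K := C) (le_inf hS.le hSc) inf_le_left
  have hgC : g ∈ C := by
    have hN : C ⊔ zpowers g ≤ 𝒩(C) := sup_le le_normalizer (zpowers_le.2 hgn)
    have : (C.subgroupOf (C ⊔ zpowers g)).Normal := (normal_subgroupOf_iff_le_normalizer le_sup_left).2 hN
    have h7 : g ^ C.relIndex (C ⊔ zpowers g) ∈ C := pow_index_mem (H := C.subgroupOf (C ⊔ zpowers g))
      ⟨g, mem_sup_right (mem_zpowers g)⟩
    refine mem_of_pow_mem_of_pow_prime_mem (p := 2) (by rwa [pow_two]) h7 fun hd' => hd (hd'.trans ?_)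
    exact Dvd.intro _ (relIndex_mul_relIndex _ _ _ le_sup_left (sup_le inf_le_left (zpowers_le.2 hg)))
  rw [(mem_cent.1 hgC.2).eq, mul_inv_cancel_right] at e2
  exact h.ne (by simpa using e2.symm)

theorem cgen (t2 : t * t = 1) (ht : t ∈ cpc 2 J) : UI (cgen 2 J t) z :=
  ⟨(h.quasi.cgen (k := 1) (by rw [pow_one, pow_two, t2]) ht).2,
    mem_cgen (k := 1) h.mem (mem_cent.2 (h.comm (cpc_le_norm J ht)).symm) (by rw [pow_one, pow_two, h.sq]),
    h.sq, h.ne, fun a ha => h.uniq a (cgen_le J t ha)⟩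

end UI

end CL.CI
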