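/-
Intrinsic 2-components with one involution (helper32), part 2: the involution of `K` normalises `J`.
-/
import Cfsg.Agent.Loc.CI1
import Cfsg.Agent.Even.SubnSyl

set_option autoImplicit false
set_option linter.unusedSectionVars false
open Cfsg Subgroup CL.Even CL.Grp CL.Loc
open scoped commutatorElement Pointwise

namespace CL.CI

theorem diag_top {X : Type*} [Group X] [Finite X] {J : Subgroup X} (h : PComp 2 J ⊤) {t q : X} (t2 : t * t = 1)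
    (hn : t ∉ 𝒩(J)) (hq : q ∈ J) (h2 : T2 (q * (t * q * t⁻¹))) (hc : Commute (q * (t * q * t⁻¹)) t) :
    q * (t * q * t⁻¹) ∈ pLayerOf 2 (centralizer {t}) := by
  set f := QuotientGroup.mk' (pPrimeCore 2 X)
  set d := q * (t * q * t⁻¹) with hd
  have t2' : t ^ 2 ^ 1 = 1 := by rw [pow_one, pow_two, t2]
  obtain ⟨D, h1, -, -, -, h3, -⟩ := exists_diag_subgroup (p := 2) h.component_map (x := f t)
    (fun e => hn (zpowers_le.1 (h.le_norm_of_map (by rwa [MonoidHom.map_zpowers, zpowers_le]))))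
    (by rw [pow_two, ← map_mul, t2, map_one]; exact one_mem _)
  have h4 : f d ∈ D := by
    have := (h3 _ (mem_map_of_mem f hq)).1
    rwa [show diagElt (f t) (f q) 2 = f d by simp only [diagElt, hd, map_mul, map_inv, pow_two]; group] at this
  obtain ⟨k, hk⟩ := h2
  by_cases e : f d = 1
  · rw [eq_one_of_coprime_of_pow (coprime_orderOf_of_mem (pPrimeCore_coprime 2 X)
      ((QuotientGroup.eq_one_iff d).1 e)) hk]
    exact one_mem _
  have h5 : 2 ∣ Nat.card D := by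
    obtain ⟨j, -, hj⟩ := (Nat.dvd_prime_pow Nat.prime_two).1
      (orderOf_dvd_of_pow_eq_one (show f d ^ 2 ^ k = 1 by rw [← map_pow, hk, map_one]))
    refine (dvd_trans ?_ (Subgroup.orderOf_dvd_natCard D h4))
    rcases j with _ | j
    · exact (e (orderOf_eq_one_iff.1 hj)).elim
    · rw [hj]; exact dvd_pow_self 2 j.succ_ne_zero
  have h6 : PComp 2 D ((centralizer {t}).map f) := by
    rw [map_cent_singleton_of_coprime (QuotientGroup.mk'_surjective _) coprime_ker_mk' t2']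
    exact ⟨h1.1, isPQuasi_of_isQuasisimple h1.2 h5⟩
  obtain ⟨L, hL, rfl⟩ := h6.exists_lift (coprime_inf_ker_mk' _)
  obtain ⟨l, hl, e1⟩ := h4
  refine hL.le_pLayerOf (zpowers_le.1 (hL.le_of_le_sup_core
    (le_antisymm (pGen_le _) (le_pGen_of_isPGroup (isPGroup_zpowers hk) le_rfl)) (zpowers_le.2 ?_)))
  rw [← mul_inv_cancel_left l d]
  refine mul_mem (mem_sup_left hl) (mem_sup_right (inf_ker_le_pPrimeCoreOf (f := f) (coprime_inf_ker_mk' _)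
    (mem_inf.2 ⟨mul_mem (inv_mem (hL.le hl)) (mem_cent.2 hc), ?_⟩)))
  rw [MonoidHom.mem_ker, map_mul, map_inv, e1, inv_mul_cancel]

variable {G : Type*} [Group G] [Finite G]

theorem diag {J H : Subgroup G} (h : PComp 2 J H) {t q : G} (ht : t ∈ H) (t2 : t * t = 1)
    (hn : t ∉ 𝒩(J)) (hq : q ∈ J) (h2 : T2 (q * (t * q * t⁻¹))) (hc : Commute (q * (t * q * t⁻¹)) t) :
    q * (t * q * t⁻¹) ∈ pLayerOf 2 (H ⊓ centralizer {t}) := by
  obtain ⟨k, hk⟩ := h2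
  have := diag_top h.subgroupOf (t := ⟨t, ht⟩) (q := ⟨q, h.le hq⟩) (Subtype.ext t2)
    (fun e => hn (by
      have := (mem_norm_map_iff H.subtype_injective).2 e
      rwa [map_subgroupOf_eq_of_le h.le] at this)) hq ⟨k, Subtype.ext hk⟩ (Subtype.ext hc)
  have h1 := mem_map_of_mem H.subtype this
  rwa [map_pLayerOf_of_coprime (by simp), map_subtype_cent_singleton] at h1

theorem lbal {z t : G} (t2 : t * t = 1) (c : Commute t z) :
    pLayerOf 2 (centralizer {z} ⊓ centralizer {t}) ≤ pLayerOf 2 (centralizer {z}) := by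
  have := CL.BM.LBal.cent_le (A := centralizer {z}) CL.BM.B2.lBal_two (t2_of_sq t2).pg (zpowers_le.2 (mem_cent.2 c))
  rwa [cent_zpowers] at this

/-- `J` is a 2-component of the centraliser of its only involution `z`. -/
structure Fund (J : Subgroup G) (z : G) : Prop extends UI J z where
  pc : PComp 2 J (centralizer {z})

namespace Fund

variable {J K S : Subgroup G} {z t x y a b g : G} (h : Fund J z)
include h

theorem cnj (g : G) : Fund (cj g J) (g * z * g⁻¹) :=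
  ⟨h.conj g, by rw [← cj_cent_singleton]; exact h.pc.conj g⟩

theorem cnj' (e : g * z * g⁻¹ = t) : Fund (cj g J) t := e ▸ h.cnj g

theorem cnjc (c : Commute g z) : Fund (cj g J) z := h.cnj' (by rw [c.eq, mul_inv_cancel_right])

theorem syl (hS : IsSylowIn 2 S (centralizer {z})) : IsSylowIn 2 (S ⊓ J) J := hS.inf_of_subnIn h.pc.1

theorem le_cpc (h' : Fund K z) (e : K ≠ J) : K ≤ cpc 2 J := h'.pc.le_cpc_of_ne h.pc e

theorem cpc_of (c : Commute g z) (hg : g ∉ 𝒩(J)) (ha : a ∈ J) : g * a * g⁻¹ ∈ cpc 2 J :=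
  h.le_cpc (h.cnjc c) (fun e => hg (cj_eq_iff_mem.1 e)) (conj_mem_cj g ha)

theorem cm (hS : IsPGroup 2 S) (hle : S ≤ centralizer {z}) (hg : g ∈ S) (hn : g ∉ 𝒩(J)) (ha : a ∈ S ⊓ J)
    (hb : b ∈ S ⊓ J) : Commute (g * a * g⁻¹) b :=
  comm_of_cpc hS (mul_mem (mul_mem hg ha.1) (inv_mem hg)) hb.1 (h.cpc_of (mem_cent.1 (hle hg)) hn ha.2) hb.2

/-- L-balance -/
theorem lb (hK : Fund K t) (hz : z ∈ cpc 2 K) (hy : y ∈ K) (h2 : T2 y) (c : Commute y z) : y ∈ 𝒩(J) := by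
  obtain ⟨k, hk⟩ := h2
  have h1 := hK.pc.cgen (k := 1) (by rw [pow_one, pow_two, h.sq]) hz
  rw [inf_comm] at h1
  exact h.pc.pLayerOf_le_norm (lbal hK.sq (hK.comm (cpc_le_norm K hz)).symm
    (h1.le_pLayerOf (mem_cgen hy (mem_cent.2 c) hk)))

/-- the diagonal of `J J^t` on a Sylow subgroup -/
theorem dg (hS : IsPGroup 2 S) (hle : S ≤ centralizer {z}) (ht : t ∈ S) (hn : t ∉ 𝒩(J)) (t2 : t * t = 1) :
    (∀ a ∈ S ⊓ J, ∀ b ∈ S ⊓ J, a * (t * a * t⁻¹) * (b * (t * b * t⁻¹)) = a * b * (t * (a * b) * t⁻¹)) ∧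
    (∀ a ∈ S ⊓ J, Commute (a * (t * a * t⁻¹)) t) ∧
    ∀ a ∈ S ⊓ J, a * a = z → a * (t * a * t⁻¹) * (a * (t * a * t⁻¹)) = 1 := by
  have h1 : ∀ a ∈ S ⊓ J, ∀ b ∈ S ⊓ J,
      a * (t * a * t⁻¹) * (b * (t * b * t⁻¹)) = a * b * (t * (a * b) * t⁻¹) := fun a ha b hb => by
    rw [(h.cm hS hle ht hn ha hb).mul_mul_mul_comm]; group
  refine ⟨h1, fun a ha => ?_, fun a ha a2 => ?_⟩
  · refine (mul_inv_eq_iff_eq_mul.1 ?_ : t * _ = _).symm
    calc _ = t * a * t⁻¹ * (t * t * a * (t * t)⁻¹) := by group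
      _ = _ := by rw [t2, (h.cm hS hle ht hn ha ha).symm.eq]; group
  · rw [h1 a ha a ha, a2, (mem_cent.1 (hle ht)).eq, mul_inv_cancel_right, h.sq]

theorem q8 (hS : IsSylowIn 2 S J) : ∃ x ∈ S, ∃ w ∈ S, x * x = z ∧ w * w = z ∧ x * w * (x * w) = z ∧
    w * x * w⁻¹ = x⁻¹ := by
  obtain ⟨⟨x, hx, x2⟩, h2, -⟩ := h.quat hS
  obtain ⟨w, hw, e⟩ := h2 x hx x2
  have w2 := h.sq_of_inv (hS.le hw) (t2_of_mem hS.isPGroup hw) (hS.le hx) x2 e
  refine ⟨x, hx, w, hw, x2, w2, ?_, e⟩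
  calc _ = x * (w * x * w⁻¹) * (w * w) := by group
    _ = _ := by rw [e, w2]; group

theorem l1 (hK : Fund K t) (hy : y ∈ K) (h2 : T2 y) (h1 : y * y ≠ 1) (c : Commute y z) : t ∈ 𝒩(J) := by
  by_contra nt
  obtain ⟨n, y2⟩ := hK.ex_pow hy h2 h1
  replace hy := pow_mem hy (2 ^ n)
  replace c := c.pow_left (2 ^ n)
  generalize y ^ 2 ^ n = y at hy c y2
  obtain ⟨S, hS, hle⟩ := exists_isSylowIn_ge (T2.pg ⟨2, pow_four y2 hK.sq⟩) (zpowers_le.2 (mem_cent.2 c))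
  have yS := hle (mem_zpowers y)
  have tS : t ∈ S := y2 ▸ mul_mem yS yS
  have ny : y ∉ 𝒩(J) := fun e => nt (y2 ▸ mul_mem e e)
  have nyt : y * t ∉ 𝒩(J) := fun e => ny (by rwa [← inv_eq_of_sq y2 hK.sq, inv_mem_iff] at e)
  have ct : Commute y t := y2 ▸ (Commute.refl y).mul_right (Commute.refl y)
  obtain ⟨d1, d2, d3⟩ := h.dg hS.isPGroup hS.le tS nt hK.sq
  have k1 : ∀ a ∈ S ⊓ J, y * (a * (t * a * t⁻¹)) * y⁻¹ ∈ cpc 2 J := fun a ha => by
    rw [show y * (a * (t * a * t⁻¹)) * y⁻¹ = y * a * y⁻¹ * (y * t * a * (y * t)⁻¹) by group]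
    exact mul_mem (h.cpc_of c ny ha.2) (h.cpc_of (mem_cent.1 (hS.le (mul_mem yS tS))) nyt ha.2)
  have dS : ∀ a ∈ S ⊓ J, a * (t * a * t⁻¹) ∈ S := fun a ha => mul_mem ha.1 (mul_mem (mul_mem tS ha.1) (inv_mem tS))
  have k2 : ∀ a ∈ S ⊓ J, ∀ b ∈ S ⊓ J, Commute (y * (a * (t * a * t⁻¹)) * y⁻¹) (b * (t * b * t⁻¹)) := fun a ha b hb => by
    have c1 := comm_of_cpc hS.isPGroup (mul_mem (mul_mem yS (dS a ha)) (inv_mem yS)) hb.1 (k1 a ha) hb.2
    have c2 := c1.map (MulAut.conj t)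
    simp only [MulAut.conj_apply] at c2
    rw [← (((ct.mul_left (d2 a ha)).mul_left ct.inv_left).eq), mul_inv_cancel_right] at c2
    exact c1.mul_right c2
  have k3 : ∀ a ∈ S ⊓ J, a * a = z → a * (t * a * t⁻¹) * y * (a * (t * a * t⁻¹))⁻¹ ∈ cpc 2 K := fun a ha a2 => by
    refine hK.cpc_of (d2 a ha) (fun e => ?_) hy
    have k4 : a⁻¹ * (a * (t * a * t⁻¹) * (y * (a * (t * a * t⁻¹)) * y⁻¹)) ∈ cpc 2 J := by
      rw [mul_assoc a, inv_mul_cancel_left]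
      exact mul_mem (h.cpc_of (mem_cent.1 (hS.le tS)) nt ha.2) (k1 a ha)
    have k5 := mul_mem (conj_mem e hy) (inv_mem hy)
    rw [inv_self (d3 a ha a2), mul_assoc, mul_assoc, ← mul_assoc y] at k5
    rcases hK.uniq _ k5 (by rw [(k2 a ha a ha).mul_mul_mul_comm, d3 a ha a2, cj_sq (d3 a ha a2)]; group) with e1 | e1
    · exact h.not_cpc4 ha.2 a2 (by simpa [e1] using k4)
    · rw [e1] at k4
      exact nt (by simpa using mul_mem (le_normalizer ha.2) (cpc_le_norm J k4))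
  obtain ⟨x, hx, w, hw, x2, w2, xw2, -⟩ := h.q8 (h.syl hS)
  have k6 := mul_mem (mul_mem (inv_mem (k3 x hx x2)) (k3 _ (mul_mem hx hw) xw2)) (inv_mem (k3 w hw w2))
  have k7 := k2 x hx w hw
  rw [← d1 x hx w hw] at k6
  have a2 := d3 x hx x2
  have b2 := d3 w hw w2
  have c2 := d3 _ (mul_mem hx hw) xw2
  rw [← d1 x hx w hw] at c2
  generalize x * (t * x * t⁻¹) = A at k6 k7 a2 c2
  generalize w * (t * w * t⁻¹) = B at k6 k7 b2 c2
  have hAB : B⁻¹ * A⁻¹ * B = A⁻¹ := by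
    rw [← mul_inv_rev, inv_self c2, mul_assoc, b2, mul_one, inv_self a2]
  have k8 : A * (y⁻¹ * B * y) * A⁻¹ = y⁻¹ * B * y := by
    calc _ = y⁻¹ * (y * A * y⁻¹ * B) * y * A⁻¹ := by group
      _ = _ := by rw [k7.eq]; group
  refine hK.not_cpc4 hy y2 ((inv_mem_iff (x := y)).1 ?_)
  convert k6 using 1
  symm
  calc _ = A * (y⁻¹ * B * y) * (B⁻¹ * A⁻¹ * B) * y⁻¹ * B⁻¹ := by group
    _ = _ := by rw [hAB, k8]; group

theorem l2 (hK : Fund K t) (hz : z ∈ 𝒩(K)) : t ∈ 𝒩(J) := by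
  by_contra nt
  have c : Commute z t := hK.comm hz
  have st : ∀ y ∈ K, T2 y → Commute y z → y * y = 1 := fun y hy h2 c => by
    by_contra h1
    exact nt (h.l1 hK hy h2 h1 c)
  obtain ⟨S, hS, hle⟩ := exists_isSylowIn_ge (t2_of_sq hK.sq).pg (zpowers_le.2 (mem_cent.2 c.symm))
  have tS := hle (mem_zpowers t)
  have zS : z ∈ S := hS.le_of_normalized (t2_of_sq h.sq).pg (zpowers_le.2 (mem_cent.2 (Commute.refl z)))
    ((cent_zpowers z).ge.trans (cent_le_norm _)) (mem_zpowers z)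
  obtain ⟨d1, d2, d3⟩ := h.dg hS.isPGroup hS.le tS nt hK.sq
  have dS : ∀ a ∈ S ⊓ J, a * (t * a * t⁻¹) ∈ S := fun a ha => mul_mem ha.1 (mul_mem (mul_mem tS ha.1) (inv_mem tS))
  obtain ⟨x, hx, x2, hd⟩ : ∃ x ∈ S ⊓ J, x * x = z ∧ x * (t * x * t⁻¹) ∈ cpc 2 K := by
    obtain ⟨R, hR, hle⟩ := exists_isSylowIn_ge (hS.isPGroup.to_le (inf_le_left (b := centralizer {t}))) inf_le_right
    have zR : z ∈ R := hle ⟨zS, mem_cent.2 c⟩
    have hn : K ≤ 𝒩(cpc 2 K) := le_normalizer.trans (norm_le_norm_cpc K)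
    have k1 : ∀ a ∈ S ⊓ J, ∃ e ∈ cpc 2 K, ∃ p ∈ R ⊓ K, e * p = a * (t * a * t⁻¹) ∧
        (z * p * z⁻¹ = p ∨ z * p * z⁻¹ = t * p) := fun a ha => by
      have h1 := diag h.pc (mem_cent.2 c.symm) hK.sq nt ha.2 (t2_of_mem hS.isPGroup (dS a ha)) (d2 a ha)
      rw [inf_comm] at h1
      have h2 : _ ∈ cpc 2 K ⊔ K := pLayerOf_le_iff.2 (fun L hL => by
        by_cases e : L = K
        exacts [e.le.trans le_sup_right, (hL.le_cpc_of_ne hK.pc e).trans le_sup_left]) (lbal h.sq c h1)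
      have h3 := syl_le_inf_sup_inf_of_norm (hR.isPGroup.to_le (inf_le_left (b := cpc 2 K ⊔ K))) hn
        (by rw [← inf_assoc, inf_right_comm, inf_eq_left.2 (le_sup_right (a := cpc 2 K)), inf_comm]; exact hK.syl hR) inf_le_right
        ⟨hle ⟨dS a ha, mem_cent.2 (d2 a ha)⟩, h2⟩
      obtain ⟨e, he, p, hp, ep⟩ := (mem_sup_nl (H := K ⊓ (R ⊓ (cpc 2 K ⊔ K))) (inf_le_left.trans hn)).1
        (SetLike.le_def.1 (sup_le_sup_right inf_le_left _) h3)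
      refine ⟨e, he, p, ⟨hp.2.1, hp.1⟩, ep, ?_⟩
      have h4 : z * p * z⁻¹ * p⁻¹ = (z * e * z⁻¹)⁻¹ * e := by
        calc _ = (z * e * z⁻¹)⁻¹ * (z * (e * p) * z⁻¹) * p⁻¹ := by group
          _ = _ := by rw [ep, (mem_cent.1 (hS.le (dS a ha))).symm.eq, mul_inv_cancel_right, ← ep]; group
      have h5 : z * p * z⁻¹ * p⁻¹ ∈ K := mul_mem (conj_mem hz hp.1) (inv_mem hp.1)
      have h6 : z * p * z⁻¹ * p⁻¹ ∈ R := mul_mem (mul_mem (mul_mem zR hp.2.1) (inv_mem zR)) (inv_mem hp.2.1)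
      refine (hK.uniq _ h5 ?_).imp mul_inv_eq_one.1 mul_inv_eq_iff_eq_mul.1
      by_contra h7
      exact hK.not_cpc h5 (t2_of_mem hR.isPGroup h6) h7
        (h4 ▸ mul_mem (inv_mem (conj_mem (norm_le_norm_cpc K hz) he)) he)
    have k2 : ∀ p ∈ R ⊓ K, z * p * z⁻¹ = p → p ∈ cpc 2 K := fun p hp e => by
      rcases hK.uniq p hp.2 (st p hp.2 (t2_of_mem hR.isPGroup hp.1) (mul_inv_eq_iff_eq_mul.1 e).symm) with rfl | rfl
      exacts [one_mem _, hK.z_cpc]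
    obtain ⟨x, hx, w, hw, x2, w2, xw2, -⟩ := h.q8 (h.syl hS)
    obtain ⟨e, he, p, hp, ep, h1 | h1⟩ := k1 x hx
    · exact ⟨x, hx, x2, ep ▸ mul_mem he (k2 p hp h1)⟩
    obtain ⟨e', he', p', hp', ep', h2 | h2⟩ := k1 w hw
    · exact ⟨w, hw, w2, ep' ▸ mul_mem he' (k2 p' hp' h2)⟩
    refine ⟨_, mul_mem hx hw, xw2, ?_⟩
    rw [← d1 x hx w hw, ← ep, ← ep', show e * p * (e' * p') = e * (p * e' * p⁻¹) * (p * p') by group]
    refine mul_mem (mul_mem he (conj_mem (hn hp.2) he')) (k2 _ (mul_mem hp hp') ?_)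
    rw [← conj_mul, h1, h2, (hK.comm (le_normalizer hp.2)).mul_mul_mul_comm, hK.sq, one_mul]
  obtain ⟨w, hw, ew⟩ := (h.quat (h.syl hS)).2.1 x hx x2
  have cx := h.cm hS.isPGroup hS.le tS nt hx hx
  have cw := h.cm hS.isPGroup hS.le tS nt hx hw
  have tx := h.cpc_of c.symm nt hx.2
  have txS : t * x * t⁻¹ ∈ S := mul_mem (mul_mem tS hx.1) (inv_mem tS)
  have ext : x * t * x⁻¹ = x * (t * x * t⁻¹) * z * t := by
    rw [inv_eq_of_sq x2 h.sq, mul_assoc _ z t, c.eq]; group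
  have dd := d3 x hx x2
  have dt := d2 x hx
  have dz := mem_cent.1 (hS.le (dS x hx))
  have dx : Commute (x * (t * x * t⁻¹)) x := (Commute.refl x).mul_left cx
  have ewd : w * (x * (t * x * t⁻¹)) * w⁻¹ = x * (t * x * t⁻¹) * z := by
    rw [← conj_mul, ew, ← cw.eq, mul_inv_cancel_right, inv_eq_of_sq x2 h.sq, mul_assoc,
      (mem_cent.1 (hS.le txS)).symm.eq, ← mul_assoc]
  have xd : x = x * (t * x * t⁻¹) * z * z * (t * x * t⁻¹)⁻¹ := by rw [mul_assoc _ z z, h.sq]; group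
  generalize t * x * t⁻¹ = x' at *
  generalize x * x' = d at *
  obtain ⟨m, hm, em, md⟩ : ∃ m ∈ K, m * z * m⁻¹ = t * z ∧ Commute m d := by
    have h1 := hK.pc.cgen (k := 1) (by rw [pow_one, pow_two, dd]) hd
    have h2 := hK.cgen dd hd
    obtain ⟨R, hR, hle⟩ := exists_isSylowIn_ge (H := centralizer {t} ⊓ centralizer {d}) (t2_of_sq h.sq).pg
      (zpowers_le.2 ⟨mem_cent.2 c, mem_cent.2 dz.symm⟩)
    have h3 := hR.inf_of_subnIn h1.1
    obtain ⟨m, hm, em⟩ := h2.nk h3.isPGroup inf_le_right h.sq (inf_normalizer_le_normalizer_inf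
      ⟨le_normalizer (hle (mem_zpowers z)), mem_norm_cgen hz (mem_cent.2 dz.symm)⟩) fun hc => by
        obtain ⟨y, hy, y2⟩ := (h2.quat h3).1
        exact hK.ne (y2.symm.trans (st y (cgen_le K d hy.2) (t2_of_mem h3.isPGroup hy) (mem_cent.1 (hc hy))))
    exact ⟨m, cgen_le K d hm.2, em, mem_cent.1 (cgen_le_cent K d hm.2)⟩
  have mt := hK.cz (le_normalizer hm)
  have e1 : m * x * t * (m * x)⁻¹ = d * z := by
    calc _ = m * (x * t * x⁻¹) * m⁻¹ := by group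
      _ = m * d * m⁻¹ * (m * z * m⁻¹) * (m * t * m⁻¹) := by rw [ext]; group
      _ = _ := by rw [em, mt, md.eq, ← c.eq, mul_inv_cancel_right, mul_assoc, mul_assoc z, hK.sq, mul_one]
  have hL := hK.cnj' e1
  have hzL : z ∈ cpc 2 (cj (m * x) K) := by
    have := (cj_mem_cpc (g := m * x)).2 (mul_mem hK.z_cpc hd)
    rwa [← conj_mul, e1, ((md.mul_left dx.symm).eq), mul_inv_cancel_right, dz.eq, mul_assoc, dd, mul_one] at this
  generalize cj (m * x) K = L at hL hzL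
  have h1 := hL.pc.cgen (k := 1) (by rw [pow_one, pow_two, h.sq]) hzL
  have h2 := hL.cgen h.sq hzL
  set C := centralizer ({d * z} : Set G) ⊓ centralizer {z}
  have wz := mem_cent.1 (hS.le hw.1)
  have ews : w * (d * z) * w⁻¹ = d * z * z := by rw [← conj_mul, ewd, wz.eq, mul_inv_cancel_right]
  have wC : w ∈ 𝒩(C) := mem_norm_of_cj_le fun a ha => by
    rw [cj_inf, cj_cent_singleton, cj_cent_singleton, ews, wz.eq, mul_inv_cancel_right] at ha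
    have := (mem_cent.1 ha.1).mul_right (mem_cent.1 ha.2).inv_right
    exact ⟨mem_cent.2 (by rwa [mul_inv_cancel_right] at this), ha.2⟩
  obtain ⟨R, hR, hle⟩ := exists_isSylowIn_ge (H := centralizer {z} ⊓ 𝒩(C))
    (hS.isPGroup.to_le (inf_le_left (b := 𝒩(C)))) (inf_le_inf_right _ hS.le)
  have h3 := hR.inf_of_subnIn (h1.1.trans (SubnIn.of_le_normalizer (le_inf inf_le_right le_normalizer) inf_le_right))
  have xz := mem_cent.1 (hS.le hx.1)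
  have xC : x ∈ C := ⟨mem_cent.2 (dx.symm.mul_right xz), hS.le hx.1⟩
  have x'C : x' ∈ C := by
    refine ⟨mem_cent.2 ?_, hS.le txS⟩
    have : x' = x⁻¹ * (d * z) * z := by rw [eq_mul_inv_iff_mul_eq] at xd; rw [mul_assoc x⁻¹, ← xd]; group
    rw [this]
    exact ((mem_cent.1 xC.1).inv_left.mul_left (Commute.refl _)).mul_left (dz.symm.mul_right (Commute.refl z))
  have wR : w ∈ R := hle ⟨hw.1, wC⟩
  have hne : cj w (cgen 2 L z) ≠ cgen 2 L z := fun e => by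
    have h4 := conj_mem_cj w h2.mem
    rw [e, ews] at h4
    rcases h2.uniq _ h4 (by rw [mul_assoc d, h.sq, mul_one, dd]) with e1 | e1
    · rw [e1, one_mul] at xd
      exact h.not_cpc4 hx.2 x2 (xd ▸ inv_mem tx)
    · exact h.ne (by simpa using e1)
  have h4 := (h1.conj_of_mem_norm wC).le_cpc_of_ne h1 hne
  have k1 : ∀ a ∈ R ⊓ cgen 2 L z, ∀ b ∈ R ⊓ cgen 2 L z, Commute (w * a * w⁻¹) b := fun a ha b hb =>
    comm_of_cpc hR.isPGroup (mul_mem (mul_mem wR ha.1) (inv_mem wR)) hb.1 (h4 (conj_mem_cj w ha.2)) hb.2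
  have k2 : ∀ a ∈ R ⊓ cgen 2 L z, a * a = d * z → w * a * w⁻¹ * a⁻¹ * (w * a * w⁻¹ * a⁻¹) = z ∧
      (w * a * w⁻¹ * a⁻¹ = x ∨ w * a * w⁻¹ * a⁻¹ = x * z) := fun a ha a2 => by
    have e2 : w * a * w⁻¹ * a⁻¹ * (w * a * w⁻¹ * a⁻¹) = z := by
      rw [(k1 a ha a ha).inv_right.symm.mul_mul_mul_comm, cj_sq a2, ews, ← mul_inv_rev, a2, mul_assoc (d * z),
        (dz.symm.mul_right (Commute.refl z)).inv_right.eq, mul_inv_cancel_left]
    have aJ := h.lb hL hzL (cgen_le L z ha.2) (t2_of_mem hR.isPGroup ha.1) (mem_cent.1 (h1.le ha.2).2)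
    have eJ : w * a * w⁻¹ * a⁻¹ ∈ J := by
      rw [mul_assoc, mul_assoc, ← mul_assoc a]; exact mul_mem hw.2 (conj_mem aJ (inv_mem hw.2))
    have eC : w * a * w⁻¹ * a⁻¹ ∈ C := mul_mem (conj_mem wC (h1.le ha.2)) (inv_mem (h1.le ha.2))
    have eR : w * a * w⁻¹ * a⁻¹ ∈ R := mul_mem (mul_mem (mul_mem wR ha.1) (inv_mem wR)) (inv_mem ha.1)
    refine ⟨e2, h.uq eJ hx.2 ?_ e2 x2⟩
    rw [xd]
    exact ((mem_cent.1 eC.1).mul_right (mem_cent.1 eC.2)).mul_right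
      (comm_of_cpc hR.isPGroup (hle ⟨txS, le_normalizer x'C⟩) eR tx eJ).symm.inv_right
  obtain ⟨a, ha, b, hb, a2, b2, -, e⟩ : ∃ x ∈ R ⊓ cgen 2 L z, ∃ w ∈ R ⊓ cgen 2 L z, x * x = d * z ∧ w * w = d * z ∧
      True ∧ w * x * w⁻¹ = x⁻¹ := by
    obtain ⟨⟨x, hx, x2⟩, h5, -⟩ := h2.quat h3
    obtain ⟨w, hw, e⟩ := h5 x hx x2
    exact ⟨x, hx, w, hw, x2, h2.sq_of_inv hw.2 (t2_of_mem h3.isPGroup hw) hx.2 x2 e, trivial, e⟩
  obtain ⟨ea, ea'⟩ := k2 a ha a2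
  obtain ⟨-, eb'⟩ := k2 b hb b2
  have k3 : Commute (w * b * w⁻¹ * b⁻¹) (w * a * w⁻¹ * a⁻¹) := by
    rcases ea' with e1 | e1 <;> rcases eb' with e2 | e2 <;> rw [e1, e2]
    exacts [(Commute.refl x).mul_left xz.symm, (Commute.refl x).mul_right xz]
  refine h.inv_ne ea ?_
  have e' : b⁻¹ * a⁻¹ * b = a := by rw [← e]; group
  have c1 := (k1 a ha b hb).inv_right.symm
  have c2 := (k1 b hb a ha).inv_left
  symm
  calc _ = w * b * w⁻¹ * b⁻¹ * (w * a * w⁻¹ * a⁻¹) * (w * b * w⁻¹ * b⁻¹)⁻¹ := by rw [k3.eq, mul_inv_cancel_right]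
    _ = w * b * w⁻¹ * (b⁻¹ * (w * a * w⁻¹)) * a⁻¹ * b * (w * b * w⁻¹)⁻¹ := by group
    _ = w * b * w⁻¹ * (w * a * w⁻¹) * ((b⁻¹ * a⁻¹ * b) * (w * b * w⁻¹)⁻¹) := by rw [c1.eq]; group
    _ = w * (b * a * b⁻¹) * w⁻¹ * a := by rw [e', ← c2.eq]; group
    _ = _ := by rw [e, mul_inv_rev, inv_inv, ← (k1 a ha a ha).inv_left.eq]; group

end Fund

end CL.CI
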