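/-
Intrinsic 2-components with one involution (helper32), part 3: elements of order at least four normalise `J`.
-/
import Cfsg.Agent.Loc.CI2

set_option autoImplicit false
set_option linter.unusedSectionVars false
open Cfsg Subgroup CL.Even CL.Grp CL.Loc
open scoped commutatorElement Pointwise

namespace CL.CI

variable {G : Type*} [Group G] [Finite G] {J K L M T S R : Subgroup G} {z t k m x y a b u : G}

theorem cje (c : Commute a b) : a * b * a⁻¹ = b := by rw [c.eq, mul_inv_cancel_right]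

theorem Fund.pair (hK : Fund K t) (hL : Fund L t) (hM : Fund M t) (ha : a ∈ K) (hb : b ∈ L)
    (hn : a * b ∉ cpc 2 M) : M = K ∨ M = L := by
  by_contra hc
  push Not at hc
  exact hn (mul_mem (hM.le_cpc hK hc.1.symm ha) (hM.le_cpc hL hc.2.symm hb))

theorem Fund.conj2 (hK : Fund K t) (hL : Fund L t) (ne : L ≠ K) {a' b' i j : G} (ha : a ∈ K) (hb : b ∈ L) (hi : i ∈ K)
    (hj : j ∈ L) (ea : i * a * i⁻¹ = a') (eb : j * b * j⁻¹ = b') :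
    a' * b' * (i * j * (a * b) * (i * j)⁻¹)⁻¹ ∈ pPrimeCoreOf 2 (centralizer {t}) := by
  have h1 := hK.pc.core_le ((hK.le_cpc hL ne hj).2 a ha)
  have h2 := hL.pc.core_le ((hL.le_cpc hK ne.symm hi).2 _ (conj_mem (le_normalizer hj) hb))
  have n := le_normalizer_pPrimeCoreOf 2 (centralizer ({t} : Set G))
  have := inv_mem (mul_mem (conj_mem (n (hK.pc.le hi)) h1) (conj_mem (n (hK.pc.le (conj_mem (le_normalizer hi) ha))) h2))
  convert this using 1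
  rw [← ea, ← eb]; simp only [commutatorElement_def]; group

theorem odd_of_core {H : Subgroup G} (h : a ∈ pPrimeCoreOf 2 H) : (orderOf a).Coprime 2 :=
  coprime_orderOf_of_mem (pPrimeCoreOf_coprime 2 H) h

/-- commutators with an involution `s` moving `J` -/
theorem Fund.phi (h : Fund J z) (hS : IsPGroup 2 S) (hle : S ≤ centralizer {z}) {s : G} (hs : s ∈ S) (s2 : s * s = 1)
    (hn : s ∉ 𝒩(J)) (ha : a ∈ S ⊓ J) (hb : b ∈ S ⊓ J) (a2 : a * a = z) (b2 : b * b = z) :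
    ∃ g, Commute g s ∧ g * (a * (s * a⁻¹ * s⁻¹)) * g⁻¹ = b * (s * b⁻¹ * s⁻¹) := by
  have sz := mem_cent.1 (hle hs)
  have k1 : ∀ a ∈ S ⊓ J, a * a = z → a * (s * a⁻¹ * s⁻¹) * (a * (s * a⁻¹ * s⁻¹)) = 1 ∧
      Commute (a * (s * a⁻¹ * s⁻¹)) s := fun a ha a2 => by
    have c := h.cm hS hle hs hn (inv_mem ha) ha
    have e : a * (s * a⁻¹ * s⁻¹) * (a * (s * a⁻¹ * s⁻¹)) = 1 := by
      rw [c.mul_mul_mul_comm, a2, conj_mul, ← mul_inv_rev, a2, cje sz.inv_right, mul_inv_cancel]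
    refine ⟨e, (mul_inv_eq_iff_eq_mul.1 ?_ : s * _ = _).symm⟩
    calc _ = s * a * s⁻¹ * (s * s * a⁻¹ * (s * s)⁻¹) := by group
      _ = (a * (s * a⁻¹ * s⁻¹))⁻¹ := by rw [s2]; group
      _ = _ := inv_self e
  obtain ⟨j, hj, e⟩ := h.conj4 ha.2 hb.2 a2 b2
  have ne : cj s J ≠ J := fun e => hn (cj_eq_iff_mem.1 e)
  have h1 := h.conj2 (h.cnjc sz) ne ha.2 (conj_mem_cj s (inv_mem ha.2)) hj (conj_mem_cj s hj) e
    (b' := s * b⁻¹ * s⁻¹) (by rw [← e]; group)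
  have h2 : s * (j * (s * j * s⁻¹) * s * (j * (s * j * s⁻¹))⁻¹) ∈ pPrimeCoreOf 2 (centralizer {z}) := by
    convert h.pc.core_le ((h.cpc_of sz hn hj).2 j hj) using 1
    calc _ = s * j * s⁻¹ * (s * s) * j * (s * j * s⁻¹)⁻¹ * j⁻¹ := by group
      _ = _ := by rw [s2, mul_one, commutatorElement_def]
  have gz : j * (s * j * s⁻¹) ∈ centralizer {z} := mul_mem (h.pc.le hj) ((h.cnjc sz).pc.le (conj_mem_cj s hj))
  generalize j * (s * j * s⁻¹) = g at h1 h2 gz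
  obtain ⟨o, ho, eo⟩ := exists_conj_odd (by rw [cj_sq s2]; group) s2 (odd_of_core h2)
  replace ho := zpowers_le.2 h2 ho
  have gs : Commute (o * g) s := mul_inv_eq_iff_eq_mul.1 (Eq.trans (by group) eo)
  obtain ⟨e1, c1⟩ := k1 a ha a2
  obtain ⟨e2, c2⟩ := k1 b hb b2
  have rz : a * (s * a⁻¹ * s⁻¹) ∈ centralizer {z} := hle (mul_mem ha.1 (mul_mem (mul_mem hs (inv_mem ha.1)) (inv_mem hs)))
  generalize a * (s * a⁻¹ * s⁻¹) = r at *
  generalize b * (s * b⁻¹ * s⁻¹) = r' at *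
  have h3 : r' * (o * g * r * (o * g)⁻¹) ∈ pPrimeCoreOf 2 (centralizer {z}) := by
    convert mul_mem (mul_mem h1 (conj_mem (le_normalizer_pPrimeCoreOf 2 _ (mul_mem (mul_mem gz rz) (inv_mem gz))) ho))
      (inv_mem ho) using 1
    nth_rw 1 [← inv_self e1]; group
  obtain ⟨o', ho', eo'⟩ := exists_conj_odd (by rw [cj_sq e1]; group) e2 (odd_of_core h3)
  refine ⟨o' * (o * g), Commute.mul_left (mem_cent.1 (zpowers_le.2 (mem_cent.2 ?_) ho')) gs, by rw [← eo']; group⟩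
  exact c2.mul_left ((gs.mul_left c1).mul_left gs.inv_left)

/-- both involutions act nontrivially on the other component -/
structure Cfg (J K T S R : Subgroup G) (z t k m : G) : Prop where
  hJ : Fund J z
  hK : Fund K t
  ne : z ≠ t
  c : Commute z t
  ntJ : t ∉ cpc 2 J
  nzK : z ∉ cpc 2 K
  hT : IsSylowIn 2 T (centralizer {z} ⊓ centralizer {t})
  hS : IsSylowIn 2 S (centralizer {z})
  hR : IsSylowIn 2 R (centralizer {t})
  TS : T ≤ S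
  TR : T ≤ R
  hk : k ∈ S ⊓ J
  hm : m ∈ R ⊓ K
  ek : k * t * k⁻¹ = z * t
  em : m * z * m⁻¹ = t * z

namespace Cfg

variable (h : Cfg J K T S R z t k m)
include h

theorem symm : Cfg K J T R S t z m k :=
  ⟨h.hK, h.hJ, h.ne.symm, h.c.symm, h.nzK, h.ntJ, inf_comm (centralizer ({z} : Set G)) _ ▸ h.hT, h.hR, h.hS, h.TR, h.TS,
    h.hm, h.hk, h.em, h.ek⟩

theorem cz (ha : a ∈ T) : Commute a z := mem_cent.1 (h.hT.le ha).1
theorem ct (ha : a ∈ T) : Commute a t := mem_cent.1 (h.hT.le ha).2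
theorem sz (ha : a ∈ S) : Commute a z := mem_cent.1 (h.hS.le ha)

theorem memT (ha : a ∈ S) (c : Commute a t) : a ∈ T :=
  (h.hT.eq_of_le (h.hS.isPGroup.to_le (inf_le_left (b := centralizer {t})))
    (le_inf h.TS (h.hT.le.trans inf_le_right)) (inf_le_inf_right _ h.hS.le)).le ⟨ha, mem_cent.2 c⟩

theorem cm (hy : y ∈ T) (hn : y ∉ 𝒩(J)) (ha : a ∈ S ⊓ J) (hb : b ∈ S ⊓ J) : Commute (y * a * y⁻¹) b :=
  h.hJ.cm h.hS.isPGroup h.hS.le (h.TS hy) hn ha hb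

theorem swap : ∃ g : G, g * z * g⁻¹ = t ∧ g * t * g⁻¹ = z := by
  have e1 := cje (h.sz h.hk.1)
  have e2 := cje (h.symm.sz h.hm.1)
  refine ⟨k * m * k, ?_, ?_⟩
  · calc _ = k * (m * (k * z * k⁻¹) * m⁻¹) * k⁻¹ := by group
      _ = _ := by rw [e1, h.em, ← conj_mul, h.ek, e1, h.c.eq, mul_assoc, h.hJ.sq, mul_one]
  · calc _ = k * (m * (k * t * k⁻¹) * m⁻¹) * k⁻¹ := by group
      _ = _ := by rw [h.ek, ← conj_mul (a := z), h.em, e2, ← h.c.eq, mul_assoc z t t, h.hK.sq, mul_one, e1]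

theorem into (ha : a ∈ J) (h2 : T2 a) (c : Commute a t) : ∃ j ∈ J, Commute j t ∧ j * a * j⁻¹ ∈ T := by
  obtain ⟨j, hj, e⟩ := (h.hT.inf_of_subnIn (h.hJ.pc.1.inf_right (centralizer {t}))).exists_conj_le h2.pg
    (zpowers_le.2 ⟨ha, mem_cent.2 c⟩)
  exact ⟨j, hj.1, mem_cent.1 hj.2, (e (smul_mem_pointwise_smul _ _ _ (mem_zpowers a))).1⟩

theorem tk : t * k * t⁻¹ = z * k := by
  calc _ = z * z * t * k * t⁻¹ := by rw [h.hJ.sq, one_mul]
    _ = _ := by rw [mul_assoc z z, ← h.ek]; group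

theorem exu (hy : y ∈ T ⊓ K) (y2 : y * y = t) (hn : y ∉ 𝒩(J)) : ∃ u ∈ T, u * y * u⁻¹ = z * y ∧ u ∉ 𝒩(K) := by
  have c := h.cm hy.1 hn h.hk h.hk
  have yS := h.TS hy.1
  have hu : k * (y * k * y⁻¹) ∈ S := mul_mem h.hk.1 (mul_mem (mul_mem yS h.hk.1) (inv_mem yS))
  have e : y * (k * (y * k * y⁻¹)) * y⁻¹ = z * (k * (y * k * y⁻¹)) := by
    calc _ = y * k * y⁻¹ * (y * y * k * (y * y)⁻¹) := by group
      _ = _ := by
        rw [y2, h.tk, ← mul_assoc, (h.sz (mul_mem (mul_mem yS h.hk.1) (inv_mem yS))).eq, mul_assoc, c.eq]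
  generalize k * (y * k * y⁻¹) = u at hu e
  have uz := h.sz hu
  have e2 : u * y * u⁻¹ = z * y := by
    calc _ = u * (y * u * y⁻¹)⁻¹ * y := by group
      _ = _ := by rw [e, mul_inv_rev, mul_inv_cancel_left, inv_self h.hJ.sq]
  refine ⟨u, h.memT hu (mul_inv_eq_iff_eq_mul.1 ?_), e2, fun hn => ?_⟩
  · rw [← y2, ← conj_mul, e2, (h.sz yS).mul_mul_mul_comm, h.hJ.sq, one_mul]
  · have := mul_mem (conj_mem hn hy.2) (inv_mem hy.2)
    rw [e2, mul_inv_cancel_right] at this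
    exact (h.hK.uniq z this h.hJ.sq).elim h.hJ.ne h.ne

theorem exx (hy : y ∈ T ⊓ K) (y2 : y * y = t) : ∃ x ∈ T ⊓ J, x * x = z := by
  by_contra hc
  have k1 : ∀ a ∈ J, T2 a → Commute a t → a * a = 1 := fun a ha h2 c => by
    by_contra h1
    obtain ⟨n, e⟩ := h.hJ.ex_pow ha h2 h1
    obtain ⟨j, hj, -, hT⟩ := h.into (pow_mem ha (2 ^ n)) ⟨2, pow_four e h.hJ.sq⟩ (c.pow_left _)
    exact hc ⟨_, ⟨hT, conj_mem (le_normalizer hj) (pow_mem ha _)⟩, by rw [cj_sq e, h.hJ.cz (le_normalizer hj)]⟩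
  have yS := h.TS hy.1
  have hn : y ∉ 𝒩(J) := fun hn => by
    have h1 : k⁻¹ * (y * k * y⁻¹) ∈ J := mul_mem (inv_mem h.hk.2) (conj_mem hn h.hk.2)
    have h2 : Commute (k⁻¹ * (y * k * y⁻¹)) t := by
      refine (mul_inv_eq_iff_eq_mul.1 ?_ : t * _ = _).symm
      calc _ = (t * k * t⁻¹)⁻¹ * (t * y * t⁻¹ * (t * k * t⁻¹) * (t * y * t⁻¹)⁻¹) := by group
        _ = k⁻¹ * (z⁻¹ * (y * z * y⁻¹)) * (y * k * y⁻¹) := by rw [h.tk, cje (h.ct hy.1).symm]; group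
        _ = _ := by rw [cje (h.cz hy.1)]; group
    have h3 : y * k * y⁻¹ = k ∨ y * k * y⁻¹ = k * z := (h.hJ.uniq _ h1 (k1 _ h1 (t2_of_mem h.hS.isPGroup
      (mul_mem (inv_mem h.hk.1) (mul_mem (mul_mem yS h.hk.1) (inv_mem yS)))) h2)).imp
        (fun e => (inv_mul_eq_one.1 e).symm) inv_mul_eq_iff_eq_mul.1
    have h4 : t * k * t⁻¹ = y * (y * k * y⁻¹) * y⁻¹ := by rw [← y2]; group
    rw [h.tk] at h4
    refine h.hJ.ne (mul_right_cancel (b := k) (h4.trans ?_))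
    rcases h3 with e | e
    · rw [e, e, one_mul]
    · rw [e, ← conj_mul, e, cje (h.cz hy.1), mul_assoc, h.hJ.sq, mul_one, one_mul]
  obtain ⟨u, hu, eu, nu⟩ := h.exu hy y2 hn
  obtain ⟨g, gz, gt⟩ := h.swap
  have k2 : ∀ a ∈ cj g J, a ∈ T → a * a ≠ t := fun a ha hT a2 => by
    have h1 : g⁻¹ * a * g⁻¹⁻¹ * (g⁻¹ * a * g⁻¹⁻¹) = z := by rw [cj_sq a2, ← gz]; group
    refine h.hJ.ne (h1.symm.trans (k1 _ (by rw [inv_inv]; exact mem_cj.1 ha) ⟨2, pow_four h1 h.hJ.sq⟩ ?_))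
    have := (h.cz hT).map (MulAut.conj g⁻¹)
    simp only [MulAut.conj_apply] at this
    rwa [← gt, show g⁻¹ * (g * t * g⁻¹) * g⁻¹⁻¹ = t by group] at this
  rcases (h.hK.cnjc (h.ct hu)).pair h.hK (h.hJ.cnj' gz) (conj_mem_cj u hy.2) (inv_mem hy.2) (by
    rw [eu, mul_inv_cancel_right, ← gt, cj_mem_cpc]; exact h.ntJ) with e | e
  · exact k2 _ (e ▸ conj_mem_cj u hy.2) (mul_mem (mul_mem hu hy.1) (inv_mem hu)) (by rw [cj_sq y2, cje (h.ct hu)])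
  · exact k2 _ (e ▸ hy.2) hy.1 y2

theorem alpha (hy : y ∈ T ⊓ K) (y1 : y * y ≠ 1) (hn : y ∉ 𝒩(J)) (hx : x ∈ T ⊓ J) (x2 : x * x = z) : x ∉ 𝒩(K) := by
  intro hxK
  have xS : x ∈ S ⊓ J := ⟨h.TS hx.1, hx.2⟩
  have yz := h.cz hy.1
  have yt := h.ct hy.1
  have et : x * (y * x⁻¹ * y⁻¹) = t := by
    have h1 : x * (y * x⁻¹ * y⁻¹) ∈ K := by
      rw [← mul_assoc, ← mul_assoc]; exact mul_mem (conj_mem hxK hy.2) (inv_mem hy.2)
    refine (h.hK.uniq _ h1 ?_).resolve_left fun e => h.hJ.not_cpc4 hx.2 x2 ?_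
    · rw [(h.cm hy.1 hn (inv_mem xS) xS).mul_mul_mul_comm, x2, conj_mul, ← mul_inv_rev, x2, cje yz.inv_right,
        mul_inv_cancel]
    · rw [eq_inv_of_mul_eq_one_left e]
      exact inv_mem (h.hJ.cpc_of yz hn (inv_mem hx.2))
  obtain ⟨g, gz, gt, gK⟩ : ∃ g : G, g * z * g⁻¹ = t ∧ g * t * g⁻¹ = z ∧ cj g K = J := by
    obtain ⟨g, gz, gt⟩ := h.swap
    rcases h.hJ.pair (h.hJ.cnjc yz) (h.hK.cnj' gt) hx.2 (conj_mem_cj y (inv_mem hx.2)) (by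
      rw [et, ← gz, cj_mem_cpc]; exact h.nzK) with e | e
    · exact ⟨g, gz, gt, e⟩
    · refine ⟨y⁻¹ * g, ?_, ?_, by rw [cj_mul, e, cj_inv_cj]⟩
      · rw [← cje yt.inv_left, ← gz]; group
      · rw [← cje yz.inv_left, ← gt]; group
  have k1 : ∀ M, Fund M t → z ∉ cpc 2 M → g * y * g⁻¹ ∉ 𝒩(M) := fun M hM hz => by
    have n1 : g * y * g⁻¹ ∉ 𝒩(cj g J) := fun e => hn (cj_mem_norm.1 e)
    rcases (h.hJ.cnj' gz).pair ((h.hJ.cnjc yz).cnj' gz) hM (conj_mem_cj g hx.2)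
      (conj_mem_cj g (conj_mem_cj y (inv_mem hx.2))) (by rwa [conj_mul, et, gt]) with e | e <;> rw [e]
    · exact n1
    · rw [cj_mem_norm]
      exact fun e => hn ((cj_mem_norm (g := y)).1 (by rwa [mul_inv_cancel_right]))
  have c1 : Commute (g * y * g⁻¹) t := by simpa only [MulAut.conj_apply, gz] using yz.map (MulAut.conj g)
  have h2 := t2_of_mem h.hT.isPGroup hy.1
  have yJ : g * y * g⁻¹ ∈ J := gK ▸ conj_mem_cj g hy.2
  obtain ⟨j, hj, jt, hT⟩ := h.into yJ (h2.conj g) c1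
  have jz := h.hJ.comm (le_normalizer hj)
  have n2 : j * (g * y * g⁻¹) * j⁻¹ ∉ 𝒩(K) := fun e => k1 _ (h.hK.cnjc jt.inv_left)
    (by rw [← cje jz.inv_left, cj_mem_cpc]; exact h.nzK)
    (by have := (cj_mem_norm (g := j⁻¹)).2 e; rwa [show ∀ a : G, j⁻¹ * (j * a * j⁻¹) * j⁻¹⁻¹ = a by intro a; group] at this)
  obtain ⟨n, y2⟩ := h.hK.ex_pow hy.2 h2 y1
  have v2 : (j * (g * y * g⁻¹) * j⁻¹) ^ 2 ^ n * (j * (g * y * g⁻¹) * j⁻¹) ^ 2 ^ n = z := by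
    rw [conj_pow, conj_pow, conj_mul, conj_mul, y2, gt, cje jz]
  have vJ := conj_mem (le_normalizer hj) yJ
  generalize j * (g * y * g⁻¹) * j⁻¹ = v at hT n2 v2 vJ
  have vS : v ∈ S ⊓ J := ⟨h.TS hT, vJ⟩
  have yR : y ∈ R ⊓ K := ⟨h.TR hy.1, hy.2⟩
  have e1 : (v * (y * v⁻¹ * y⁻¹)) ^ 2 ^ n = v ^ 2 ^ n * (y * (v ^ 2 ^ n)⁻¹ * y⁻¹) := by
    rw [(h.cm hy.1 hn (inv_mem vS) vS).symm.mul_pow, conj_pow, inv_pow]
  have e2 : (v * (y * v⁻¹ * y⁻¹)) ^ 2 ^ n = v * y ^ 2 ^ n * v⁻¹ * (y ^ 2 ^ n)⁻¹ := by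
    rw [← mul_assoc, ← mul_assoc, (h.symm.cm hT n2 yR (inv_mem yR)).mul_pow, conj_pow, inv_pow]
  have c2 : Commute (v ^ 2 ^ n) x := by
    rw [eq_mul_inv_of_mul_eq et]
    exact ((h.ct hT).pow_left _).mul_right (h.cm hy.1 hn (inv_mem xS) (pow_mem vS _)).symm.inv_right
  have e3 : v ^ 2 ^ n * (y * (v ^ 2 ^ n)⁻¹ * y⁻¹) = t := by
    rcases h.hJ.uq (pow_mem vJ _) hx.2 c2 v2 x2 with e | e <;> rw [e]
    · exact et
    · calc _ = x * (z * (y * z⁻¹ * y⁻¹)) * (y * x⁻¹ * y⁻¹) := by group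
        _ = _ := by rw [cje yz.inv_right, mul_inv_cancel, mul_one, et]
  have := mul_mem (inv_mem h.hK.z_cpc) (h.hK.cpc_of (h.ct hT) n2 (pow_mem hy.2 (2 ^ n)))
  rw [← e3, ← e1, e2] at this
  exact h.hK.not_cpc4 (pow_mem hy.2 _) y2 (by simpa [mul_assoc] using this)

theorem beta1 (hx : x ∈ T ⊓ J) (x2 : x * x = z) (nx : x ∉ 𝒩(K)) (hy : y ∈ T ⊓ K) (y2 : y * y = t) (ny : y ∉ 𝒩(J)) :
    x * y * x⁻¹ = z * t * y ∧ k * x * k⁻¹ = x⁻¹ ∧ k * k = z := by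
  obtain ⟨u, hu, eu, nu⟩ := h.exu hy y2 ny
  have xz := h.cz hx.1
  have xt := h.ct hx.1
  have yz := h.cz hy.1
  have xS : x ∈ S ⊓ J := ⟨h.TS hx.1, hx.2⟩
  have yR : y ∈ R ⊓ K := ⟨h.TR hy.1, hy.2⟩
  have e : cj x K = cj u K := ((h.hK.cnjc (h.ct hu)).pair h.hK (h.hK.cnjc xt) (conj_mem_cj u hy.2) (inv_mem hy.2) (by
    rw [eu, mul_inv_cancel_right, ← cje xz, cj_mem_cpc]; exact h.nzK)).resolve_right fun e => nx (cj_eq_iff_mem.1 e)
  have e1 : x * y * x⁻¹ = z * t * y := by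
    rcases (h.hK.cnjc xt).uq (conj_mem_cj x hy.2) (e ▸ conj_mem_cj u hy.2) (by
      rw [eu]; exact ((xz.mul_left yz).mul_left xz.inv_left).mul_right (h.symm.cm hx.1 nx yR yR))
      (by rw [cj_sq y2, cje xt]) (by rw [cj_sq y2, cje (h.ct hu)]) with e1 | e1
    · refine (h.hJ.not_cpc4 hx.2 x2 ?_).elim
      rw [show x = z * (y * x * y⁻¹) by rw [← mul_assoc, ← mul_assoc, ← eu, ← e1]; group]
      exact mul_mem h.hJ.z_cpc (h.hJ.cpc_of yz ny hx.2)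
    · rw [e1, eu, mul_assoc, (h.ct hy.1).eq, mul_assoc]
  have e2 : k * x * k⁻¹ = x⁻¹ := by
    have e3 : x = z * t * (y * x * y⁻¹) := by rw [← mul_assoc, ← mul_assoc, ← e1]; group
    have e4 := cje (h.cm hy.1 ny xS h.hk).symm
    rw [e3, ← conj_mul, ← conj_mul, e4, h.ek, cje (h.sz h.hk.1), mul_assoc, ← e3, inv_eq_of_sq x2 h.hJ.sq, xz.eq]
  exact ⟨e1, e2, h.hJ.sq_of_inv h.hk.2 (t2_of_mem h.hS.isPGroup h.hk.1) hx.2 x2 e2⟩

theorem beta (hx : x ∈ T ⊓ J) (x2 : x * x = z) (nx : x ∉ 𝒩(K)) (hy : y ∈ T ⊓ K) (y2 : y * y = t) (ny : y ∉ 𝒩(J)) :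
    False := by
  obtain ⟨exy, ekx, k2⟩ := h.beta1 hx x2 nx hy y2 ny
  obtain ⟨eyx, emy, m2⟩ := h.symm.beta1 hy y2 ny hx x2 nx
  have z2 := h.hJ.sq
  have t2 := h.hK.sq
  have c := h.c
  have xz := h.cz hx.1
  have xt := h.ct hx.1
  have yz := h.cz hy.1
  have yt := h.ct hy.1
  have kz := h.sz h.hk.1
  have mt := h.symm.sz h.hm.1
  have xS : x ∈ S ⊓ J := ⟨h.TS hx.1, hx.2⟩
  have yR : y ∈ R ⊓ K := ⟨h.TR hy.1, hy.2⟩
  have ez : x * y * x⁻¹ * y = z := by rw [exy, mul_assoc, y2, mul_assoc, t2, mul_one]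
  have s2 : x * y * (x * y) = 1 := by
    calc _ = x * y * x⁻¹ * (x * x) * y := by group
      _ = x * y * x⁻¹ * y * z := by rw [x2, mul_assoc, ← yz.eq, mul_assoc _ y z]
      _ = _ := by rw [ez, z2]
  have hM := h.hK.cnj' h.ek
  -- the third pair of components
  obtain ⟨v, hv, ev⟩ : ∃ v, (v = 1 ∨ v = t ∨ v = z ∨ v = z * t) ∧ k * y * k⁻¹ = m * x * m⁻¹ * v := by
    have hM' := (h.hK.cnjc xt).cnj' h.ek
    have hN := h.hJ.cnj' (h.em.trans c.eq.symm)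
    have conjT : ∀ {J K T S R : Subgroup G} {z t k m y : G}, Cfg J K T S R z t k m → y ∈ T → k * y * k⁻¹ ∈ T :=
      fun {J K T S R z t k m y} h hy => h.memT (mul_mem (mul_mem h.hk.1 (h.TS hy)) (inv_mem h.hk.1)) (by
        have := ((h.cz hy).mul_right (h.ct hy)).map (MulAut.conj k)
        simp only [MulAut.conj_apply] at this
        rwa [← conj_mul, h.ek, cje (h.sz h.hk.1), ← mul_assoc, h.hJ.sq, one_mul] at this)
    have h1 := conjT h hy.1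
    have h2 := conjT h.symm hx.1
    have h3 := conjT h (mul_mem (mul_mem hx.1 hy.1) (inv_mem hx.1))
    have e1 : k * (x * y * x⁻¹) * k⁻¹ = k * y * k⁻¹ * t := by
      rw [exy, ← conj_mul, ← conj_mul, h.ek, cje kz, ← mul_assoc z, z2, one_mul, (h.ct h1).eq]
    have ne : cj k (cj x K) ≠ cj k K := fun e => nx (cj_eq_iff_mem.1 (cj_inj.1 e))
    have a2 : m * x * m⁻¹ * (m * x * m⁻¹) = z * t := by rw [cj_sq x2, h.em, c.eq]
    have b2 : k * y * k⁻¹ * (k * y * k⁻¹) = z * t := by rw [cj_sq y2, h.ek]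
    rcases hM'.pair hM hN (conj_mem_cj k (conj_mem_cj x hy.2)) (conj_mem_cj k hy.2) (fun e => h.ntJ (by
      rw [conj_mul, ez, cje kz] at e
      have := mul_mem e hN.z_cpc
      rwa [← mul_assoc, z2, one_mul, ← cje mt, cj_mem_cpc] at this)) with e | e
    · have hx' : m * x * m⁻¹ ∈ cj k (cj x K) := e ▸ conj_mem_cj m hx.2
      have c1 := comm_of_cpc h.hT.isPGroup h2 h1 (hM.le_cpc hM' ne hx') (conj_mem_cj k hy.2)
      rcases hM'.uq (conj_mem_cj k (conj_mem_cj x hy.2)) hx' (by rw [e1]; exact (c1.mul_right (h.ct h2)).symm)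
        (by rw [cj_sq (cj_sq y2), cje xt, h.ek]) a2 with e2 | e2
      · exact ⟨t, by simp, by rw [← e2, e1, mul_assoc _ t t, t2, mul_one]⟩
      · exact ⟨z, by simp, mul_right_cancel (b := t) (by rw [← e1, e2, mul_assoc _ z t])⟩
    · have hx' : m * x * m⁻¹ ∈ cj k K := e ▸ conj_mem_cj m hx.2
      have c1 := comm_of_cpc h.hT.isPGroup h3 h2 (hM.le_cpc hM' ne (conj_mem_cj k (conj_mem_cj x hy.2))) hx'
      rw [e1] at c1
      have c2 : Commute (k * y * k⁻¹) (m * x * m⁻¹) := by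
        simpa only [mul_inv_cancel_right] using c1.mul_left (h.ct h2).symm.inv_left
      rcases hM.uq (conj_mem_cj k hy.2) hx' c2 b2 a2 with e2 | e2
      · exact ⟨1, by simp, by rw [e2, mul_one]⟩
      · exact ⟨z * t, by simp, e2⟩
  have nx' : x⁻¹ ∉ 𝒩(K) := fun e => nx (inv_mem_iff.1 e)
  have hK' := h.hK.cnjc xt.inv_left
  have ez' : x⁻¹ * y * x⁻¹⁻¹ * y = z := by
    calc _ = x * ((x * x)⁻¹ * y * (x * x)⁻¹⁻¹) * x⁻¹ * y := by group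
      _ = _ := by rw [x2, cje yz.symm.inv_left, ez]
  obtain ⟨p, hp, q, hq, p2, q2, es⟩ : ∃ p ∈ cj x⁻¹ K, ∃ q ∈ K, p * p = t ∧ q * q = t ∧
      k * (x * y) * k⁻¹ = p * q := by
    have e1 : k * (x * y) * k⁻¹ = x⁻¹ * m * x⁻¹⁻¹ * (m⁻¹ * v) := by rw [← conj_mul, ekx, ev]; group
    have i2 : m⁻¹ * m⁻¹ = t := by rw [← mul_inv_rev, m2, inv_self t2]
    have st : ∀ a ∈ K, a * a = t → a * t * (a * t) = t := fun a ha a2 => by
      rw [(h.hK.comm (le_normalizer ha)).symm.mul_mul_mul_comm, a2, t2, mul_one]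
    have my : m * y * (m * y) = t := by
      calc _ = m * y * m⁻¹ * (m * m) * y := by group
        _ = _ := by rw [emy, m2, mul_assoc, ← yt.eq, inv_mul_cancel_left]
    have my' : m⁻¹ * y * (m⁻¹ * y) = t := by
      rw [inv_eq_of_sq m2 t2, mul_assoc m t, ← yt.eq, ← mul_assoc m y]
      exact st _ (mul_mem h.hm.2 hy.2) my
    have e2 : x⁻¹ * m * x⁻¹⁻¹ * (m⁻¹ * z) = x⁻¹ * (m * y) * x⁻¹⁻¹ * (m⁻¹ * y) := by
      rw [← ez', ← mul_assoc m⁻¹, ← (h.symm.cm (inv_mem hx.1) nx' yR (inv_mem h.hm)).eq]; group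
    have cjt : ∀ a, a * a = t → x⁻¹ * a * x⁻¹⁻¹ * (x⁻¹ * a * x⁻¹⁻¹) = t := fun a a2 => by rw [cj_sq a2, cje xt.inv_left]
    have hm' : m⁻¹ ∈ K := K.inv_mem h.hm.2
    have hmy := mul_mem hm' hy.2
    rcases hv with rfl | rfl | rfl | rfl
    · exact ⟨_, conj_mem_cj _ h.hm.2, _, hm', cjt _ m2, i2, by rw [e1, mul_one]⟩
    · exact ⟨_, conj_mem_cj _ h.hm.2, _, mul_mem hm' h.hK.mem, cjt _ m2, st _ hm' i2, e1⟩
    · exact ⟨_, conj_mem_cj _ (mul_mem h.hm.2 hy.2), _, hmy, cjt _ my, my', e1.trans e2⟩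
    · exact ⟨_, conj_mem_cj _ (mul_mem h.hm.2 hy.2), _, mul_mem hmy h.hK.mem, cjt _ my, st _ hmy my',
        by rw [e1, ← mul_assoc m⁻¹, ← mul_assoc, e2, mul_assoc]⟩
  have sM : x * y ∈ 𝒩(cj k K) := by
    have := (cj_mem_norm (g := k)).2 (es ▸ mul_mem (h.hK.pc.le_norm hK'.pc hp) (le_normalizer hq))
    rwa [show k * (k * (x * y) * k⁻¹) * k⁻¹ = k * k * (x * y) * (k * k)⁻¹ by group, k2,
      cje (xz.mul_left yz).symm] at this
  obtain ⟨g, eg⟩ : ∃ g : G, g * z * g⁻¹ = x * y := by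
    obtain ⟨i, hi, ei⟩ := hK'.conj4 (conj_mem_cj x⁻¹ hy.2) hp (by rw [cj_sq y2, cje xt.inv_left]) p2
    obtain ⟨j, hj, ej⟩ := h.hK.conj4 hy.2 hq y2 q2
    have h1 := hK'.conj2 h.hK (fun e => nx' (cj_eq_iff_mem.1 e.symm)) (conj_mem_cj x⁻¹ hy.2) hy.2 hi hj ei ej
    have r2 : i * j * z * (i * j)⁻¹ * (i * j * z * (i * j)⁻¹) = 1 := by rw [cj_sq z2]; group
    rw [ez', inv_self r2, ← es] at h1
    obtain ⟨o, -, eo⟩ := exists_conj_odd r2 (by rw [cj_sq s2]; group) (odd_of_core h1)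
    refine ⟨k⁻¹ * o * (i * j), ?_⟩
    calc _ = k⁻¹ * (o * (i * j * z * (i * j)⁻¹) * o⁻¹) * k := by group
      _ = _ := by rw [eo]; group
  have hL := h.hJ.cnj' eg
  have sS : x * y ∈ S := h.TS (mul_mem hx.1 hy.1)
  have ns : x * y ∉ 𝒩(J) := fun e => ny (by simpa using mul_mem (inv_mem (le_normalizer hx.2)) e)
  have sz := xz.mul_left yz
  have e0 : x * (x * y * x⁻¹ * (x * y)⁻¹) = z * t := by
    rw [exy]; exact Eq.trans (by group) (cje (xz.mul_right xt))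
  generalize x * y = s at *
  have k3 : ∀ b ∈ S ⊓ J, b * b = z → b * (s * b⁻¹ * s⁻¹) ∈ 𝒩(cj g J) := fun b hb b2 => by
    obtain ⟨l, ls, el⟩ := h.hJ.phi h.hS.isPGroup h.hS.le sS s2 ns xS hb x2 b2
    rw [e0] at el
    exact hL.l2 (hM.cnj' el) (by rw [← cje ls, cj_mem_norm]; exact sM)
  have xk2 : x * k * (x * k) = z := by
    calc _ = x * (k * x * k⁻¹) * (k * k) := by group
      _ = _ := by rw [ekx, k2]; group
  refine ns (h.hJ.l2 hL ?_)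
  convert mul_mem (mul_mem (inv_mem (k3 _ (mul_mem xS h.hk) xk2)) (k3 x xS x2)) (k3 k h.hk k2) using 1
  symm
  calc _ = s * (x * k) * s⁻¹ * k⁻¹ * (s * x⁻¹ * s⁻¹ * k) * (s * k⁻¹ * s⁻¹) := by group
    _ = s * (x * (k * x * k⁻¹)⁻¹) * s⁻¹ := by
      rw [(h.hJ.cm h.hS.isPGroup h.hS.le sS ns (inv_mem xS) h.hk).eq]; group
    _ = _ := by rw [ekx, inv_inv, x2, cje sz]

end Cfg

theorem Fund.l3 (h : Fund J z) (hK : Fund K t) (ne : J ≠ K) (hy : y ∈ K) (h2 : T2 y) (h1 : y * y ≠ 1)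
    (yz : Commute y z) : y ∈ 𝒩(J) := by
  by_contra ny
  have nzt : z ≠ t := fun e => ny (h.pc.le_norm (e ▸ hK.pc) hy)
  have tJ := h.l1 hK hy h2 h1 yz
  have c : Commute z t := (h.comm tJ).symm
  have zK : z ∈ 𝒩(K) := hK.pc.mem_norm_of_mem hy (hK.not_cpc hy h2 h1) (le_normalizer (mem_cent.2 c)) (cje yz.symm)
  have nzK : z ∉ cpc 2 K := fun e => ny (h.lb hK e hy h2 yz)
  obtain ⟨T, hT, hyT⟩ := exists_isSylowIn_ge (H := centralizer {z} ⊓ centralizer {t}) h2.pg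
    (zpowers_le.2 ⟨mem_cent.2 yz, hK.pc.le hy⟩)
  replace hyT := hyT (mem_zpowers y)
  obtain ⟨S, hS, TS⟩ := exists_isSylowIn_ge hT.isPGroup (hT.le.trans inf_le_left)
  obtain ⟨R, hR, TR⟩ := exists_isSylowIn_ge hT.isPGroup (hT.le.trans inf_le_right)
  have inT : ∀ a, a * a = 1 → Commute a z → Commute a t → centralizer {z} ⊓ centralizer {t} ≤ centralizer {a} → a ∈ T :=
    fun a a2 c1 c2 hle => hT.le_of_normalized (t2_of_sq a2).pg (zpowers_le.2 ⟨mem_cent.2 c1, mem_cent.2 c2⟩)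
      ((hle.trans (cent_zpowers a).ge).trans (cent_le_norm _)) (mem_zpowers a)
  have zT := inT z h.sq (Commute.refl z) c inf_le_left
  have tT := inT t hK.sq c.symm (Commute.refl t) inf_le_right
  have ntJ : t ∉ cpc 2 J := fun e => by
    obtain ⟨x, hx, x2⟩ := (h.quat (h.syl hS)).1
    have xt := (comm_of_cpc hS.isPGroup (TS tT) hx.1 e hx.2).symm
    have xK := hK.lb h e hx.2 ⟨2, pow_four x2 h.sq⟩ xt
    have h3 : x * (y * x⁻¹ * y⁻¹) ∈ K := by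
      rw [← mul_assoc, ← mul_assoc]; exact mul_mem (conj_mem xK hy) (inv_mem hy)
    have h4 : x * (y * x⁻¹ * y⁻¹) ∈ cpc 2 J := by
      rcases hK.uniq _ h3 (by
        rw [(h.cm hS.isPGroup hS.le (TS hyT) ny (inv_mem hx) hx).mul_mul_mul_comm, x2, conj_mul, ← mul_inv_rev, x2,
          cje yz.inv_right, mul_inv_cancel]) with e1 | e1 <;> rw [e1]
      exacts [one_mem _, e]
    exact h.not_cpc4 hx.2 x2 (by simpa only [mul_inv_cancel_right] using mul_mem h4 (inv_mem (h.cpc_of yz ny (inv_mem hx.2))))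
  obtain ⟨k, hk, ek⟩ := h.nk (h.syl hS).isPGroup inf_le_right hK.sq
    (inf_normalizer_le_normalizer_inf ⟨le_normalizer (TS tT), tJ⟩) fun e => ntJ (h.zs (h.syl hS) hK.sq tJ e)
  obtain ⟨m, hm, em⟩ := hK.nk (hK.syl hR).isPGroup inf_le_right h.sq
    (inf_normalizer_le_normalizer_inf ⟨le_normalizer (TR zT), zK⟩) fun e => nzK (hK.zs (hK.syl hR) h.sq zK e)
  have H : Cfg J K T S R z t k m := ⟨h, hK, nzt, c, ntJ, nzK, hT, hS, hR, TS, TR, hk, hm, ek, em⟩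
  obtain ⟨n, y2⟩ := hK.ex_pow hy h2 h1
  have hy' : y ^ 2 ^ n ∈ T ⊓ K := ⟨pow_mem hyT _, pow_mem hy _⟩
  obtain ⟨x, hx, x2⟩ := H.exx hy' y2
  have nx := H.alpha ⟨hyT, hy⟩ h1 ny hx x2
  exact H.beta hx x2 nx hy' y2 (H.symm.alpha hx (x2 ▸ h.ne) nx hy' y2)

end CL.CI
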