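/-
Automorphisms of prime order acting coprimely (helper28): a perfect group `H = [H, R]` acting on a group `A`
and centralising `C_A(R)` centralises `A`.
-/
import Cfsg.Agent.HHS.Basic
import Cfsg.Agent.Loc.LBalance
import Cfsg.Agent.Loc.PGen
import Cfsg.Agent.Loc.SigCtx
import Cfsg.Agent.Grp.ThompsonFpf
import Cfsg.Agent.Odd.FT
import Cfsg.Agent.S0227

set_option autoImplicit false
set_option linter.unusedSectionVars false
open Cfsg CL.Odd CL.Grp CL.Loc Subgroup
open CL.HHS (PA HHSCore)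
open scoped Pointwise commutatorElement

namespace CL.Loc.Flav

universe u

section tools
variable {X : Type*} [Group X] {A B H K P R S : Subgroup X}

theorem le_cent_of_perf (hH : ⁅H, H⁆ = H) (h : ⁅A, H⁆ ≤ C[H]) : A ≤ C[H] :=
  comm_eq_bot_iff.1 (commutator_eq_bot_of_perfect hH (comm_eq_bot_iff.2 h))

variable [Finite X]

theorem le_of_perf_sol (hP : ⁅P, P⁆ = P) (hn : B ≤ N[A]) (hB : Group.IsSolvable B) (h : P ≤ A ⊔ B) : P ≤ A := by
  induction B using WellFoundedLT.induction with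
  | _ B ih =>
    by_cases h0 : B = ⊥
    · rwa [h0, sup_bot_eq] at h
    · exact ih _ (der_lt_of_solvable hB h0) ((der_le B).trans hn) (sol_of_le hB (der_le B))
        (hP.ge.trans ((der_mono h).trans (der_sup_le_sup_der hn)))

theorem le_sup_res (p : ℕ) [Fact p.Prime] (hP : ⁅P, P⁆ = P) (hn : B ≤ N[A]) (h : P ≤ A ⊔ B) :
    P ≤ A ⊔ pResidualOf p B := by
  obtain ⟨S, hS⟩ := exists_isSylowIn p B
  refine le_of_perf_sol hP (B := S) (le_norm_sup (hS.le.trans hn) (hS.le.trans (CL.Even.self_le_norm_res B)))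
    (sol_of_isPGroup Fact.out hS.isPGroup) (h.trans (sup_le (le_sup_left.trans le_sup_left) ?_))
  exact (CL.Even.syl_sup_res hS).ge.trans (sup_le le_sup_right (le_sup_right.trans le_sup_left))

theorem exists_perf_supp (hP : ⁅P, P⁆ = P) (hn : B ≤ N[A]) (h : P ≤ A ⊔ B) :
    ∃ B0 : Subgroup X, B0 ≤ B ∧ ⁅B0, B0⁆ = B0 ∧ P ≤ A ⊔ B0 := by
  obtain ⟨B0, h1, h2⟩ := exists_minimal_le_of_wellFoundedLT (fun U : Subgroup X => P ≤ A ⊔ U) B h
  exact ⟨B0, h1, le_antisymm (der_le _) (h2.2 (hP.ge.trans ((der_mono h2.1).trans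
    (der_sup_le_sup_der (h1.trans hn)))) (der_le _)), h2.1⟩

theorem pa_sup (h1 : PA R A) (h2 : PA R H) (hn : H ≤ N[A]) : PA R (A ⊔ H) :=
  ⟨le_norm_sup h1.norm h2.norm, h1.prime, fun hd => by
    rw [sup_comm] at hd
    exact ((Nat.Prime.dvd_mul h1.prime).1 (hd.trans (card_sup_dvd hn))).elim h2.nd h1.nd⟩

theorem pa_quo {N : Subgroup X} (h : PA R A) (hN : N ≤ A) (hn : R ≤ N[N]) {B : Subgroup X} (hB : PA R B) :
    PA (quo N R) (quo N B) := by
  have e : Nat.card (quo N R) = Nat.card R := card_quo_of_inf_eq_bot hn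
    (le_bot_iff.1 ((inf_le_inf_right R hN).trans (by rw [inf_comm]; exact h.inf_eq_bot.le)))
  exact ⟨quo_le_norm N hB.norm, e ▸ h.prime, fun hd => hB.nd ((e ▸ hd).trans (card_quo_dvd N B))⟩

theorem cent_eq_c1 (hR : (Nat.card R).Prime) {a : X} (ha : a ∈ R) (h1 : a ≠ 1) : C[R] = C1[a] := by
  have := Fact.mk hR
  rw [← centralizer_zpowers]
  congr 2
  have h2 : zpowers (⟨a, ha⟩ : R) = ⊤ := zpowers_eq_top_of_prime_card rfl (fun e => h1 (congrArg Subtype.val e))
  have h3 := congrArg (Subgroup.map R.subtype) h2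
  rw [MonoidHom.map_zpowers, ← MonoidHom.range_eq_map, range_subtype] at h3
  exact h3.symm

theorem nil_of_fpf (h : PA R A) (hf : A ⊓ C[R] = ⊥) : Group.IsNilpotent A :=
  isNilpotent_of_fpf_subgroup (fun e => h.prime.ne_one (by rw [e, card_bot])) h.norm
    fun a ha h1 => by rw [← cent_eq_c1 h.prime ha h1, hf]

theorem syl_of_norm {p : ℕ} [Fact p.Prime] {Y : Subgroup X} (hP : IsSylowIn p P Y) (hY : Y ≤ A)
    (h : A ⊓ N[P] ≤ Y) : IsSylowIn p P A :=
  isSylowIn_of_maximal (hP.le.trans hY) hP.isPGroup fun U u1 u2 u3 => by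
    by_contra hne
    have h1 := lt_inf_normalizer_of_isPGroup u1 (lt_of_le_of_ne u2 (Ne.symm hne))
    exact h1.ne (hP.eq_of_le u1.to_inf_left h1.le ((inf_le_inf_right _ u3).trans h)).symm

end tools

/-- the hypotheses of the main theorem -/
structure TH {X : Type*} [Group X] (R H A : Subgroup X) : Prop where
  pH : PA R H
  pA : PA R A
  HA : H ≤ N[A]
  comm : ⁅H, R⁆ = H
  perf : ⁅H, H⁆ = H
  fix : A ⊓ C[R] ≤ C[H]

section step
variable {X : Type u} [Group X] [Finite X] {R H A : Subgroup X}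

theorem TH.of_le (h : TH R H A) {B : Subgroup X} (hB : B ≤ A) (h1 : H ≤ N[B]) (h2 : R ≤ N[B]) : TH R H B :=
  ⟨h.pH, h.pA.of_le hB h2, h1, h.comm, h.perf, (inf_le_inf_right _ hB).trans h.fix⟩

theorem TH.quo (h : TH R H A) {N : Subgroup X} (hN : N ⊴ A) (h1 : H ≤ N[N]) (h2 : R ≤ N[N]) :
    TH (quo N R) (quo N H) (quo N A) where
  pH := pa_quo h.pA hN.le h2 h.pH
  pA := pa_quo h.pA hN.le h2 h.pA
  HA := quo_le_norm N h.HA
  comm := by rw [← quo_comm h1 h2, h.comm]
  perf := by rw [← quo_der h1, h.perf]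
  fix := by
    rw [coprime_quo_cent h.pA.norm hN h2 (h.pA.of_le hN.le h2).cop (h.pA.of_le hN.le h2).solv]
    exact quo_le_cent N h.fix

/-- a perfect supplement centralising a Sylow `2`-subgroup -/
theorem TH.supp (hh : HHSCore.{u}) (h : TH R H A) (hs : ¬ Group.IsSolvable A)
    (h0 : ∀ B : Subgroup X, B < A → H ≤ N[B] → R ≤ N[B] → B ≤ C[H])
    (h1 : ∀ N : Subgroup X, N ⊴ A → H ≤ N[N] → R ≤ N[N] → N = ⊥ ∨ N = A) :
    ∃ S B : Subgroup X, IsSylowIn 2 S A ∧ ⁅B, B⁆ = B ∧ B ≤ N[A] ∧ B ≤ C[S] ∧ H ≤ A ⊔ B := by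
  have pY : PA R (A ⊓ C[H]) := h.pA.of_le inf_le_left (le_norm_inf h.pA.norm (le_norm_cent h.pH.norm))
  obtain ⟨P, hP, -, nP⟩ := pY.syl (p := 2) bot_le IsPGroup.of_bot (by rw [norm_bot]; exact le_top)
  by_cases hP0 : P = ⊥
  · obtain ⟨S, hS, -, nS⟩ := h.pA.syl (p := 2) bot_le IsPGroup.of_bot (by rw [norm_bot]; exact le_top)
    have f : S ⊓ C[R] = ⊥ := by
      have := hP.eq_of_le (U := S ⊓ C[R]) hS.isPGroup.to_inf_left (hP0 ▸ bot_le)
        (le_inf (inf_le_left.trans hS.le) ((inf_le_inf_right _ hS.le).trans h.fix))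
      rw [this, hP0]
    have pM := pa_sup h.pA h.pH h.HA
    set M := (A ⊔ H) ⊓ N[S]
    have pN : PA R M := pM.of_le inf_le_left (le_norm_inf pM.norm (le_norm_norm nS))
    have MA : M ≤ N[A] := inf_le_left.trans (sup_le (le_norm_self A) h.HA)
    have k1 : H ≤ A ⊔ M := fun x hx => by
      obtain ⟨n, hn, e⟩ := hS.frattini h.HA hx
      rw [← inv_mul_cancel_left n x]
      exact mul_mem (mem_sup_left (inv_mem hn))
        (mem_sup_right (mem_inf.2 ⟨mul_mem (mem_sup_left hn) (mem_sup_right hx), e⟩))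
    have k2 : H ≤ A ⊔ ⁅M, R⁆ := by
      refine h.comm.ge.trans ((commutator_mono k1 le_rfl).trans (comm_sup_left_le ?_ ?_ le_sup_right))
      · exact sup_le (le_norm_of_le le_sup_left) (le_norm_sup MA (left_le_norm_comm M R))
      · exact h.pA.comm_le.trans le_sup_left
    have n1 : ⁅M, R⁆ ≤ N[A] := pN.comm_le.trans MA
    have n2 := (CL.Even.res_le (p := 2) _).trans n1
    have n3 := (CL.Even.res_le (p := 2) _).trans n2
    obtain ⟨B, b1, b2, b3⟩ := exists_perf_supp h.perf n3 (le_sup_res 2 h.perf n2 (le_sup_res 2 h.perf n1 k2))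
    exact ⟨S, B, hS, b2, b1.trans n3,
      b1.trans (hh X 2 S M R hS.isPGroup inf_le_right nS pN.norm pN.prime pN.nd f), b3⟩
  · have HP : H ≤ C[P] := cent_symm (hP.le.trans inf_le_right)
    have PA' : P ≤ A := hP.le.trans inf_le_left
    have lt : A ⊓ N[P] < A := lt_of_le_of_ne inf_le_left fun e => by
      rcases h1 P ⟨PA', e.ge.trans inf_le_right⟩ (le_norm_of_le_cent HP) nP with e1 | e1
      · exact hP0 e1
      · exact hs (e1 ▸ sol_of_isPGroup Nat.prime_two hP.isPGroup)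
    exact ⟨P, H, syl_of_norm hP inf_le_left (le_inf inf_le_left (h0 _ lt
      (le_norm_inf h.HA (le_norm_norm (le_norm_of_le_cent HP))) (le_norm_inf h.pA.norm (le_norm_norm nP)))),
      h.perf, h.HA, HP, le_sup_right⟩

theorem TH.step (hh : HHSCore.{u}) (h : TH R H A)
    (h0 : ∀ B : Subgroup X, B < A → H ≤ N[B] → R ≤ N[B] → B ≤ C[H])
    (h1 : ∀ N : Subgroup X, N ⊴ A → H ≤ N[N] → R ≤ N[N] → N = ⊥ ∨ N = A) : A ≤ C[H] := by
  by_cases hA : A = ⊥
  · rw [hA]; exact bot_le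
  have h2 : ∀ N : Subgroup X, N ≤ A → N[A] ≤ N[N] → N = ⊥ ∨ N = A := fun N a b =>
    h1 N ⟨a, (le_norm_self A).trans b⟩ (h.HA.trans b) (h.pA.norm.trans b)
  by_cases hs : Group.IsSolvable A
  · have ab : A ≤ C[A] := comm_eq_bot_iff.1
      ((h2 _ (der_le A) (norm_le_norm_der A)).resolve_right (der_lt_of_solvable hs hA).ne)
    obtain ⟨p, hp, e⟩ := exists_pCoreOf_ne_bot hs hA
    have := Fact.mk hp
    have e1 := (h2 _ (pCoreOf_le p A) (normalizer_le_normalizer_pCoreOf p A)).resolve_left e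
    rcases h1 (A ⊓ C[H]) ⟨inf_le_left, le_norm_of_le_cent (ab.trans (cent_anti inf_le_left))⟩
      (le_norm_of_le_cent (cent_symm inf_le_right)) (le_norm_inf h.pA.norm (le_norm_cent h.pH.norm)) with e2 | e2
    · have k := hh X p A H R (e1 ▸ pCoreOf_isPGroup p A) h.HA h.pA.norm h.pH.norm h.pH.prime h.pH.nd
        (le_bot_iff.1 (e2 ▸ le_inf inf_le_left h.fix))
      rw [h.comm, res_eq_of_perfect h.perf, res_eq_of_perfect h.perf] at k
      exact cent_symm k
    · exact e2.ge.trans inf_le_right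
  · have hO : pPrimeCore 2 A = ⊥ := by
      rcases h2 _ (pPrimeCoreOf_le 2 A) (normalizer_le_normalizer_pPrimeCoreOf 2 A) with e | e
      · exact (map_eq_bot_iff_of_injective _ A.subtype_injective).1 e
      · exact absurd (feit_thompson (Nat.coprime_two_right.1 (e ▸ pPrimeCoreOf_coprime 2 A))) hs
    obtain ⟨S, B, hS, b1, b2, b3, b4⟩ := h.supp hh hs h0 h1
    have k1 : H ≤ A ⊔ C[A] := b4.trans (sup_le_sup_left
      (le_cent_of_perfect_of_cent_sylow @Cfsg.Agent.S0227.result hO hS b1 b2 b3) A)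
    set W := A ⊓ C[A ⊓ C[R]]
    have k2 : H ≤ W ⊔ C[A] := fun x hx => by
      obtain ⟨a, ha, c, hc, rfl⟩ := (mem_sup_norm (cent_le_norm A)).1 (k1 hx)
      refine mul_mem (mem_sup_left (mem_inf.2 ⟨ha, ?_⟩)) (mem_sup_right hc)
      rw [← mul_inv_cancel_right a c]
      exact mul_mem (cent_symm h.fix hx) (inv_mem (cent_anti inf_le_left hc))
    by_cases hW : W = A
    · have k3 : A ⊓ C[R] ≤ Z[A] := le_inf inf_le_left (cent_symm (hW.ge.trans inf_le_right))
      rcases h2 _ inf_le_left (norm_le_norm_center A) with e | e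
      · exact absurd (sol_of_nil (nil_of_fpf h.pA (le_bot_iff.1 (e ▸ k3)))) hs
      · exact absurd (sol_of_abelian (abelian_iff.2 (e.ge.trans inf_le_right))) hs
    · have k3 := h0 W (lt_of_le_of_ne inf_le_left hW)
        (le_norm_inf h.HA (le_norm_cent (le_norm_of_le_cent (cent_symm h.fix))))
        (le_norm_inf h.pA.norm (le_norm_cent (le_norm_of_le_cent (cent_symm inf_le_right))))
      refine cent_symm (h.perf.ge.trans ((commutator_mono k2 le_rfl).trans (comm_sup_left_le ?_ ?_ ?_)))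
      · exact sup_le (le_norm_cent (le_norm_of_le inf_le_left)) (le_norm_self _)
      · rw [comm_eq_bot_iff.2 k3]; exact bot_le
      · exact comm_le_left (le_norm_cent h.HA)

end step

theorem thmT_aux (hh : HHSCore.{u}) (n : ℕ) : ∀ (X : Type u) [Group X] [Finite X] (R H A : Subgroup X),
    Nat.card A = n → TH R H A → A ≤ C[H] := by
  induction n using Nat.strong_induction_on with
  | _ n ih =>
    intro X _ _ R H A hn h
    have h0 : ∀ B : Subgroup X, B < A → H ≤ N[B] → R ≤ N[B] → B ≤ C[H] := fun B b1 b2 b3 =>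
      ih _ (hn ▸ card_lt_card_of_lt b1) X R H B rfl (h.of_le b1.le b2 b3)
    by_cases h1 : ∀ N : Subgroup X, N ⊴ A → H ≤ N[N] → R ≤ N[N] → N = ⊥ ∨ N = A
    · exact h.step hh h0 h1
    · push Not at h1
      obtain ⟨N, a1, a2, a3, a4, a5⟩ := h1
      have c1 : Nat.card (quo N A) < n := by
        rw [← hn, ← card_mul_card_quo a1]
        exact lt_mul_of_one_lt_left Nat.card_pos ((one_lt_card_iff_ne_bot N).2 a4)
      exact le_cent_of_perf h.perf (((quo_le_cent_iff a1.norm a2).1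
        (ih _ c1 _ _ _ _ rfl (h.quo a1 a2 a3))).trans (h0 N (lt_of_le_of_ne a1.le a5) a2 a3))

/-- `R` of prime order acts coprimely on `H A`, `H = [H, R]` is perfect and centralises `C_A(R)`.
Then `H` centralises `A`. -/
theorem TH.le_cent (hh : HHSCore.{u}) {X : Type u} [Group X] [Finite X] {R H A : Subgroup X} (h : TH R H A) :
    A ≤ C[H] :=
  thmT_aux hh _ X R H A rfl h

end CL.Loc.Flav
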