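/-
Automorphisms of prime order acting coprimely (helper28): components of invariant subgroups.
-/
import Cfsg.Agent.Loc.FlavT

set_option autoImplicit false
set_option linter.unusedSectionVars false
open Cfsg CL.Odd CL.Grp CL.Loc Subgroup
open CL.HHS (PA HHSCore)
open scoped Pointwise commutatorElement

namespace CL.Loc.Flav

universe u

section
variable {X : Type u} [Group X] [Finite X] {G R H K L A U V : Subgroup X}

theorem comp_le_comm (hK : IsCompIn K H) (hn : R ≤ N[H]) (hc : ¬ K ≤ C[R]) : K ≤ ⁅H, R⁆ :=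
  (hK.le_or_commutator_eq_bot_of_le_normalizer (comm_le_left hn) (hK.le.trans (left_le_norm_comm H R))).resolve_right
    fun e => hc (cent_symm (le_cent_of_perf hK.commutator_self (by
      rw [commutator_comm]; exact (commutator_mono hK.le le_rfl).trans (comm_eq_bot_iff'.1 e))))

/-- A component of an `R C_G(R)`-invariant subgroup that is not centralised by `R` lies in `E(G)`. -/
theorem comp_le_layer (hh : HHSCore.{u}) (pG : PA R G) (hH : H ≤ G) (hn : R ⊔ (G ⊓ C[R]) ≤ N[H])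
    (hK : IsCompIn K H) (hc : ¬ K ≤ C[R]) : K ≤ subgroupLayer G := by
  have key : K ≤ fstarOf G := by
    by_contra hF
    set F := fstarOf G
    have FG : F ≤ G := fstarOf_le G
    have GF : G ≤ N[F] := le_normalizer_fstarOf G
    have RF : R ≤ N[F] := pG.norm.trans (normalizer_le_normalizer_fstarOf G)
    have gF : R ⊔ (G ⊓ C[R]) ≤ N[F] := sup_le RF (inf_le_left.trans GF)
    have k1 : K ≤ H ⊓ C[H ⊓ F] := le_inf hK.le (comm_eq_bot_iff.1
      ((hK.le_or_commutator_eq_bot_of_le_normalizer inf_le_left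
        (hK.le.trans (le_norm_inf (le_norm_self H) (hH.trans GF)))).resolve_left fun e => hF (e.trans inf_le_right)))
    obtain ⟨H2, h1, h2⟩ := exists_minimal_le_of_wellFoundedLT
      (fun U : Subgroup X => K ≤ U ∧ R ⊔ (G ⊓ C[R]) ≤ N[U]) (H ⊓ C[H ⊓ F])
      ⟨k1, le_norm_inf hn (le_norm_cent (le_norm_inf hn gF))⟩
    have HH : H2 ≤ H := h1.trans inf_le_left
    have R2 : R ≤ N[H2] := le_sup_left.trans h2.1.2
    have perf : ⁅H2, H2⁆ = H2 := le_antisymm (der_le _) (h2.2 ⟨hK.commutator_self.ge.trans (der_mono h2.1.1),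
      le_norm_comm h2.1.2 h2.1.2⟩ (der_le _))
    have comm : ⁅H2, R⁆ = H2 := le_antisymm (comm_le_left R2) (h2.2 ⟨comp_le_comm (hK.of_le h2.1.1 HH) R2 hc,
      le_norm_comm h2.1.2 (sup_le (le_norm_self R) (le_norm_of_le_cent inf_le_right))⟩ (comm_le_left R2))
    have t : TH R H2 F := ⟨pG.of_le (HH.trans hH) R2, pG.of_le FG RF, (HH.trans hH).trans GF, comm, perf,
      le_cent_of_perf perf ((le_inf ?_ ?_).trans (cent_symm (h1.trans inf_le_right)))⟩
    · exact hF (h2.1.1.trans ((le_inf (HH.trans hH) (cent_symm (t.le_cent hh))).trans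
        ((inf_centralizer_fstarOf_le G).trans (fittingOf_le_fstarOf G))))
    · exact (comm_le_right (((inf_le_inf_right _ FG).trans le_sup_right).trans h2.1.2)).trans HH
    · exact (commutator_mono inf_le_left le_rfl).trans (comm_le_left ((HH.trans hH).trans GF))
  rw [fstarOf_eq] at key
  exact le_of_perf_sol hK.commutator_self ((fittingOf_le G).trans (le_normalizer_subgroupLayer G))
    (sol_of_nil (fittingOf_isNilpotent G)) key

theorem layer_le_layer (hh : HHSCore.{u}) (pG : PA R G) (hH : H ≤ G) (hn : R ⊔ (G ⊓ C[R]) ≤ N[H])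
    (hc : ⁅H, R⁆ = H) : subgroupLayer H ≤ subgroupLayer G := by
  refine subgroupLayer_le_iff'.2 fun K hK => ?_
  by_cases h : ∀ x ∈ H, cj x • K ≤ C[R]
  · refine absurd (hK.le.trans (hc.ge.trans (commutator_le.2 fun x hx y hy => ?_)))
      (IsQuasisimple.not_le_centralizer hK.2)
    have h1 := cent_symm (h 1 (one_mem H)) hy
    have h2 := cent_symm (h x⁻¹ (inv_mem hx)) hy
    rw [cj_one] at h1
    rw [← cj_centralizer, mem_cj, inv_inv] at h2
    exact mul_mem h2 (inv_mem h1)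
  · push Not at h
    obtain ⟨x, hx, h⟩ := h
    exact (cj_le_iff_of_mem_norm (le_normalizer_subgroupLayer G (hH hx))).1
      (comp_le_layer hh pG hH hn (hK.conj_smul_of_mem_normalizer (le_norm_self H hx)) h)

/-- the projection of `U` to `L / Z(L)` is normal and not trivial -/
theorem cover (hL : IsQuasisimple L) (hU : U ≤ L ⊔ C[L]) (h1 : V ≤ N[U]) (h2 : V ≤ N[L]) (h3 : L ≤ V ⊔ C[L])
    (h4 : ¬ U ≤ C[L]) : L ≤ U ⊔ C[L] := by
  have n : L ≤ N[L ⊓ (U ⊔ C[L])] := le_norm_inf (le_norm_self L)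
    (h3.trans (sup_le (le_norm_sup h1 (le_norm_cent h2)) (le_norm_of_le le_sup_right)))
  rcases IsQuasisimple.eq_or_commutator_eq_bot hL inf_le_left n with e | e
  · exact e.ge.trans inf_le_right
  · refine absurd (fun x hx => ?_) h4
    obtain ⟨a, ha, c, hc, rfl⟩ := (mem_sup_norm (cent_le_norm L)).1 (hU hx)
    refine mul_mem (comm_eq_bot_iff.1 e (mem_inf.2 ⟨ha, ?_⟩)) hc
    rw [← mul_inv_cancel_right a c]
    exact mul_mem (mem_sup_left hx) (mem_sup_right (inv_mem hc))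

theorem cent_of_cover (hL : ⁅L, L⁆ = L) (h : L ≤ U ⊔ C[L]) (hU : U ≤ N[L]) (hV : V ≤ N[L]) (hc : V ≤ C[U]) :
    V ≤ C[L] := by
  refine le_cent_of_perf hL ((commutator_mono le_rfl h).trans (comm_sup_right_le ?_ ?_ ?_))
  · exact sup_le (le_norm_cent hU) (le_norm_self _)
  · rw [comm_eq_bot_iff.2 hc]; exact bot_le
  · exact comm_le_right (le_norm_cent hV)

theorem pow_mul_eq {g x : X} {r : ℕ} (hx : ∀ i, 0 < i → i < r → g ^ i * x * (g ^ i)⁻¹ ∈ U) (n : ℕ) (hn : n < r) :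
    ∃ y ∈ U, (x * g) ^ (n + 1) = x * y * g ^ (n + 1) := by
  induction n with
  | zero => exact ⟨1, one_mem _, by simp⟩
  | succ n ih =>
    obtain ⟨y, hy, e⟩ := ih (by omega)
    exact ⟨y * (g ^ (n + 1) * x * (g ^ (n + 1))⁻¹), mul_mem hy (hx _ (by omega) hn), by
      rw [pow_succ, e, pow_succ g (n + 1)]; group⟩

theorem zpowers_eq_of_prime (hR : (Nat.card R).Prime) {a : X} (ha : a ∈ R) (h1 : a ≠ 1) : zpowers a = R := by
  have := Fact.mk hR
  have h2 : zpowers (⟨a, ha⟩ : R) = ⊤ := zpowers_eq_top_of_prime_card rfl (fun e => h1 (congrArg Subtype.val e))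
  have h3 := congrArg (Subgroup.map R.subtype) h2
  rwa [MonoidHom.map_zpowers, ← MonoidHom.range_eq_map, range_subtype] at h3

/-- the diagonal covers a factor -/
theorem diag_cover (hR : (Nat.card R).Prime) (hA : R ≤ N[A]) (hL : L ≤ A)
    (h : ∀ a ∈ R, a ≠ 1 → cj a • L ≤ C[L]) : L ≤ (A ⊓ C[R]) ⊔ C[L] := by
  obtain ⟨g, hg, g1⟩ := ne_bot_iff.1 (fun e => hR.ne_one (by rw [e, card_bot]) : R ≠ ⊥)
  have := Fact.mk hR
  have og : orderOf g = Nat.card R :=
    orderOf_eq_prime (congrArg Subtype.val (pow_card_eq_one' (x := (⟨g, hg⟩ : R)))) g1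
  intro x hx
  obtain ⟨y, hy, e⟩ := pow_mul_eq (U := A ⊓ C[L]) (g := g) (x := x) (r := Nat.card R)
    (fun i i0 i1 => mem_inf.2 ⟨conj_mem_of_norm (hA (pow_mem hg i)) (hL hx),
      h _ (pow_mem hg i) (pow_ne_one_of_lt_orderOf i0.ne' (og ▸ i1)) (conj_mem_cj.2 hx)⟩)
    (Nat.card R - 1) (by have := hR.pos; omega)
  rw [Nat.sub_add_cancel hR.pos, ← og, pow_orderOf_eq_one, mul_one] at e
  have c1 : x * y = y * x := mem_cent.1 (mem_inf.1 hy).2 x hx
  have c2 : x * g * (x * y) = x * y * (x * g) := by rw [← e, ← pow_succ, ← pow_succ']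
  rw [← mul_inv_cancel_right x y]
  refine mul_mem (mem_sup_left (mem_inf.2 ⟨mul_mem (hL hx) (mem_inf.1 hy).1, ?_⟩))
    (mem_sup_right (inv_mem (mem_inf.1 hy).2))
  rw [cent_eq_c1 hR hg g1, mem_c1]
  refine mul_left_cancel (a := x) ?_
  rw [← mul_assoc x g, c2, c1, ← mul_assoc, ← mul_assoc, ← mul_assoc, ← c1]

/-- the subgroup generated by the conjugates under `Γ` -/
def ccl (Γ K : Subgroup X) : Subgroup X := ⨆ g : Γ, cj (g : X) • K

theorem cj_le_ccl {Γ : Subgroup X} {g : X} (hg : g ∈ Γ) : cj g • K ≤ ccl Γ K :=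
  le_iSup (fun g : Γ => cj (g : X) • K) ⟨g, hg⟩

theorem le_ccl (Γ K : Subgroup X) : K ≤ ccl Γ K := by simpa only [cj_one] using cj_le_ccl (K := K) (one_mem Γ)

theorem ccl_le {Γ : Subgroup X} (h : ∀ g ∈ Γ, cj g • K ≤ U) : ccl Γ K ≤ U := iSup_le fun g => h g g.2

theorem ccl_le_of_norm {Γ : Subgroup X} (h : K ≤ U) (hn : Γ ≤ N[U]) : ccl Γ K ≤ U :=
  ccl_le fun _ hg => cj_le_of_mem_norm h (hn hg)

theorem cj_ccl (Γ K : Subgroup X) (g : X) : cj g • ccl Γ K = ccl (cj g • Γ) (cj g • K) := by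
  refine le_antisymm (cj_le_iff_le_cj_inv.2 (ccl_le fun a ha => le_cj_iff_cj_inv_le.2 ?_)) (ccl_le fun a ha => ?_)
  · rw [inv_inv, ← cj_mul, show g * a = g * a * g⁻¹ * g by group, cj_mul]
    exact cj_le_ccl (conj_mem_cj.2 ha)
  · rw [← cj_mul, show a * g = g * (g⁻¹ * a * g) by group, cj_mul]
    exact cj_mono g (cj_le_ccl (mem_cj.1 ha))

theorem ccl_cj {Γ : Subgroup X} {g : X} (hg : g ∈ Γ) : ccl Γ (cj g • K) = ccl Γ K := by
  refine le_antisymm (ccl_le fun a ha => ?_) (ccl_le fun a ha => ?_)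
  · rw [← cj_mul]; exact cj_le_ccl (mul_mem ha hg)
  · rw [← inv_mul_cancel_right a g, cj_mul]; exact cj_le_ccl (mul_mem ha (inv_mem hg))

theorem le_norm_ccl (Γ K : Subgroup X) : Γ ≤ N[ccl Γ K] := fun g hg => by
  rw [← cj_eq_self_iff, cj_ccl, cj_eq_self_of_mem hg, ccl_cj hg]

end

/-- the situation of the trichotomy -/
structure Tri {X : Type*} [Group X] (G R K : Subgroup X) : Prop where
  pG : PA R G
  le : K ≤ G
  qs : IsQuasisimple K
  comm : ∀ g ∈ R ⊔ (G ⊓ C[R]), cj g • K ≠ K → cj g • K ≤ C[K]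

namespace Tri
variable {X : Type u} [Group X] [Finite X] {G R K L : Subgroup X}

theorem norm_G (h : Tri G R K) : R ⊔ (G ⊓ C[R]) ≤ N[G] := sup_le h.pG.norm (le_norm_of_le inf_le_left)

theorem ccl_G (h : Tri G R K) : ccl (R ⊔ (G ⊓ C[R])) K ≤ G := ccl_le_of_norm h.le h.norm_G

theorem ccl_norm (h : Tri G R K) : ccl (R ⊔ (G ⊓ C[R])) K ≤ N[K] := ccl_le fun g hg => by
  by_cases e : cj g • K = K
  · rw [e]; exact le_norm_self K
  · exact le_norm_of_le_cent (h.comm g hg e)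

theorem comp (h : Tri G R K) : IsCompIn K (ccl (R ⊔ (G ⊓ C[R])) K) :=
  ⟨SubnIn.of_le_normalizer (le_ccl _ K) h.ccl_norm, h.qs⟩

theorem of_cent (h : Tri G R K) (hc : K ≤ C[R]) : IsCompIn K (G ⊓ C[R]) :=
  h.comp.trans (SubnIn.of_le_normalizer (ccl_le_of_norm (le_inf h.le hc)
    (sup_le (le_norm_of_le_cent (cent_symm inf_le_right)) (le_norm_self _))) (le_sup_right.trans (le_norm_ccl _ K)))

theorem ccl_layer (hh : HHSCore.{u}) (h : Tri G R K) (hc : ¬ K ≤ C[R]) :
    ccl (R ⊔ (G ⊓ C[R])) K ≤ subgroupLayer G :=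
  ccl_le_of_norm (comp_le_layer hh h.pG h.ccl_G (le_norm_ccl _ K) h.comp hc)
    (h.norm_G.trans (normalizer_le_normalizer_subgroupLayer G))

theorem orb_le (h : Tri G R K) (hL : IsCompIn L G) : ccl R L ≤ subgroupLayer G :=
  ccl_le_of_norm hL.le_subgroupLayer (h.pG.norm.trans (normalizer_le_normalizer_subgroupLayer G))

theorem orb_norm (h : Tri G R K) (hL : IsCompIn L G) : subgroupLayer G ≤ N[ccl R L] :=
  le_norm_iSup fun g => (hL.conj_smul_of_mem_normalizer (h.pG.norm g.2)).subgroupLayer_le_normalizer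

/-- `K` lies in the product of an `R`-orbit of components -/
theorem exists_orb (hh : HHSCore.{u}) (h : Tri G R K) (hc : ¬ K ≤ C[R]) :
    ∃ L, IsCompIn L G ∧ K ≤ ccl R L ∧ ¬ K ≤ C[L] := by
  set Γ := R ⊔ (G ⊓ C[R])
  set H := ccl Γ K
  have HE : H ≤ subgroupLayer G := h.ccl_layer hh hc
  have ΓH : Γ ≤ N[H] := le_norm_ccl _ K
  have RH : R ≤ N[H] := le_sup_left.trans ΓH
  have ΓR : Γ ≤ N[R] := sup_le (le_norm_self R) (le_norm_of_le_cent inf_le_right)
  obtain ⟨L, hL, nL⟩ : ∃ L, IsCompIn L G ∧ ¬ L ≤ C[K] := by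
    by_contra hn
    push Not at hn
    exact IsQuasisimple.not_le_centralizer h.qs ((le_ccl Γ K).trans (HE.trans (subgroupLayer_le_iff'.2 hn)))
  set A := ccl R L
  have AG : A ≤ G := (h.orb_le hL).trans (subgroupLayer_le G)
  have HA : H ≤ N[A] := HE.trans (h.orb_norm hL)
  obtain ⟨g, hg, k⟩ : ∃ g ∈ Γ, ¬ cj g • K ≤ C[A ⊓ C[R]] := by
    by_contra hn
    push Not at hn
    have t : TH R H A := ⟨h.pG.of_le h.ccl_G RH, h.pG.of_le AG (le_norm_ccl R L), HA,
      le_antisymm (comm_le_left RH) (ccl_le_of_norm (comp_le_comm h.comp RH hc) (le_norm_comm ΓH ΓR)),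
      le_antisymm (der_le H) (ccl_le_of_norm (h.comp.commutator_self.ge.trans (der_mono (le_ccl Γ K)))
        (le_norm_comm ΓH ΓH)), cent_symm (ccl_le hn)⟩
    exact nL ((le_ccl R L).trans ((t.le_cent hh).trans (cent_anti (le_ccl Γ K))))
  have c1 := h.comp.conj_smul_of_mem_normalizer (ΓH hg)
  have k1 : cj g • K ≤ A := by
    refine ((c1.le_or_commutator_eq_bot_of_le_normalizer (X := H ⊓ A) inf_le_left
      (c1.le.trans (le_norm_inf (le_norm_self H) HA))).resolve_right fun e => k ?_).trans inf_le_right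
    refine cent_symm (le_cent_of_perf c1.commutator_self ((le_inf ?_ ?_).trans (comm_eq_bot_iff'.1 e)))
    · exact (commutator_mono le_rfl c1.le).trans
        (comm_le_right (((inf_le_inf_right _ AG).trans le_sup_right).trans ΓH))
    · exact (commutator_mono inf_le_left le_rfl).trans (comm_le_left (c1.le.trans HA))
  have c2 := hL.conj_smul_of_mem_normalizer (h.norm_G (inv_mem hg))
  have k2 : K ≤ ccl R (cj g⁻¹ • L) := by
    have := cj_le_iff_le_cj_inv.1 k1
    rwa [cj_ccl, cj_eq_self (ΓR (inv_mem hg))] at this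
  obtain ⟨a, ha, k3⟩ : ∃ a ∈ R, ¬ cj a • cj g⁻¹ • L ≤ C[K] := by
    by_contra hn
    push Not at hn
    exact IsQuasisimple.not_le_centralizer h.qs (k2.trans (ccl_le hn))
  exact ⟨_, c2.conj_smul_of_mem_normalizer (h.pG.norm ha), by rwa [ccl_cj ha], fun e => k3 (cent_symm e)⟩

theorem main (hh : HHSCore.{u}) (h : Tri G R K) (hc : ¬ K ≤ C[R]) :
    IsCompIn K G ∨ ∃ L, IsCompIn L G ∧ R ≤ N[L] ∧ K ≤ L := by
  obtain ⟨L, hL, kA, nL⟩ := h.exists_orb hh hc
  by_cases hR : R ≤ N[L]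
  · exact Or.inr ⟨L, hL, hR, kA.trans (ccl_le_of_norm le_rfl hR)⟩
  left
  set Γ := R ⊔ (G ⊓ C[R])
  set H := ccl Γ K
  set A := ccl R L
  set D := A ⊓ C[R]
  have hr := h.pG.prime
  have gen : ∀ {U : Subgroup X} {a : X}, a ∈ R → a ≠ 1 → a ∈ N[U] → R ≤ N[U] := fun {U a} ha a1 hn => by
    rw [← zpowers_eq_of_prime hr ha a1]; exact zpowers_le.2 hn
  have o1 : ∀ a ∈ R, a ≠ 1 → cj a • L ≤ C[L] := fun a ha a1 => comm_eq_bot_iff.1
    (((hL.conj_smul_of_mem_normalizer (h.pG.norm ha)).eq_or_commutator_eq_bot hL).resolve_left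
      fun e => hR (gen ha a1 (cj_eq_self_iff.1 e)))
  have EL := hL.subgroupLayer_le_normalizer
  have AL : A ≤ N[L] := (h.orb_le hL).trans EL
  have HE : H ≤ subgroupLayer G := h.ccl_layer hh hc
  have AG : A ≤ G := (h.orb_le hL).trans (subgroupLayer_le G)
  have DΓ : D ≤ Γ := (inf_le_inf_right _ AG).trans le_sup_right
  have AC : A ≤ L ⊔ C[L] := ccl_le fun a ha => by
    by_cases a1 : a = 1
    · rw [a1, cj_one]; exact le_sup_left
    · exact (o1 a ha a1).trans le_sup_right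
  have cv : L ≤ D ⊔ C[L] := diag_cover hr (le_norm_ccl R L) (le_ccl R L) o1
  have cv1 : L ≤ (H ⊓ A) ⊔ C[L] := cover hL.2 (inf_le_right.trans AC)
    (le_norm_inf (DΓ.trans (le_norm_ccl Γ K)) (le_norm_of_le inf_le_left)) (inf_le_left.trans AL) cv
    fun e => nL ((le_inf (le_ccl Γ K) kA).trans e)
  have cv2 : L ≤ K ⊔ C[L] := cover hL.2 (kA.trans AC) (inf_le_left.trans h.ccl_norm) (inf_le_right.trans AL) cv1 nL
  have dis : ∀ g ∈ Γ, ¬ cj g • K ≤ C[L] → g ∈ N[K] := fun g hg e => by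
    by_contra hn
    exact e (cent_of_cover hL.commutator_self cv2 (kA.trans AL) ((cj_le_ccl hg).trans (HE.trans EL))
      (h.comm g hg fun e => hn (cj_eq_self_iff.1 e)))
  have DK : D ≤ N[K] := fun d hd => dis d (DΓ hd) fun e =>
    nL ((cj_le_iff_of_mem_norm (norm_le_norm_cent L (AL hd.1))).1 e)
  have kp := h.comp.commutator_self
  have o2 : ∀ a ∈ R, a ≠ 1 → cj a • L ≤ C[K] := fun a ha a1 => by
    by_contra hn
    have RK : R ≤ N[K] := gen (inv_mem ha) (inv_ne_one.2 a1) (dis _ (mem_sup_left (inv_mem ha)) fun e => hn (by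
      rw [← le_cj_iff_cj_inv_le, cj_centralizer] at e; exact cent_symm e))
    have z : K ⊓ C[L] ≤ C[K] := comm_eq_bot_iff.1 ((IsQuasisimple.eq_or_commutator_eq_bot h.qs inf_le_left
      (le_norm_inf (le_norm_self K) (le_norm_cent (kA.trans AL)))).resolve_left fun e => nL (e.ge.trans inf_le_right))
    have k1 : N[K] ⊓ C[L] ≤ C[K] := le_cent_of_perf kp ((le_inf (comm_le_right inf_le_left)
      ((commutator_mono inf_le_right le_rfl).trans (comm_le_left (le_norm_cent (kA.trans AL))))).trans z)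
    have k2 : K ≤ D ⊔ C[K] := fun x hx => by
      obtain ⟨d, hd, c, hc, rfl⟩ := (mem_sup_norm' (le_norm_cent (inf_le_left.trans AL))).1
        ((kA.trans (AC.trans (sup_le cv le_sup_right))) hx)
      refine mul_mem (mem_sup_left hd) (mem_sup_right (k1 (mem_inf.2 ⟨?_, hc⟩)))
      rw [← inv_mul_cancel_left d c]
      exact mul_mem (inv_mem (DK hd)) (le_norm_self K hx)
    refine hc (cent_symm (le_cent_of_perf kp ((commutator_mono le_rfl k2).trans (comm_sup_right_le ?_ ?_ ?_))))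
    · exact sup_le (le_norm_cent DK) (le_norm_self _)
    · rw [comm_eq_bot_iff'.2 inf_le_right]; exact bot_le
    · exact comm_le_right (le_norm_cent RK)
  have AC2 : A ≤ L ⊔ (C[L] ⊓ C[K]) := ccl_le fun a ha => by
    by_cases a1 : a = 1
    · rw [a1, cj_one]; exact le_sup_left
    · exact (le_inf (o1 a ha a1) (o2 a ha a1)).trans le_sup_right
  have KL : K ≤ L := by
    refine kp.ge.trans ((commutator_mono (kA.trans AC2) le_rfl).trans (comm_sup_left_le ?_ ?_ ?_))
    · exact sup_le (le_norm_self L) (le_norm_of_le_cent inf_le_left)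
    · exact comm_le_left (kA.trans AL)
    · rw [comm_eq_bot_iff.2 inf_le_right]; exact bot_le
  have LK : L ≤ K := by
    have e := inf_sup_dedekind (H := K) (K := C[L]) (Or.inl (le_norm_of_le_cent (cent_anti KL))) KL
    exact le_of_perf_sol hL.commutator_self (le_norm_of_le_cent (inf_le_right.trans (cent_anti KL)))
      (sol_of_abelian (abelian_center L)) (e ▸ le_inf le_rfl cv2)
  exact le_antisymm KL LK ▸ hL

end Tri

end CL.Loc.Flav
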