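/-
p-groups of rank two, p odd: the term `γ_p` of the lower central series lies in the Frattini subgroup of every
maximal subgroup.
-/
import Cfsg.Agent.S3888
import Cfsg.Agent.MX.CHT
import Cfsg.Agent.MX.SLm
import Cfsg.Agent.Loc.ElemAb
import Cfsg.Agent.Grp.PGroupFrattini

set_option autoImplicit false

namespace CL.IsoRk2

open Subgroup Cfsg
open scoped commutatorElement

local notation "γ[" G ", " j "]" => Subgroup.lowerCentralSeries (⊤ : Subgroup G) j

variable {P : Type*} [Group P] {p n : ℕ} {x y z g : P}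

theorem cen3 (h : closure ({x, y, z} : Set P) = ⊤) (h1 : Commute x g) (h2 : Commute y g) (h3 : Commute z g) :
    g ∈ center P := by
  have : (⊤ : Subgroup P) ≤ centralizer {g} := by
    rw [← h, closure_le]
    rintro a (rfl | rfl | rfl)
    exacts [mem_centralizer_singleton_iff.2 h1, mem_centralizer_singleton_iff.2 h2, mem_centralizer_singleton_iff.2 h3]
  exact mem_center_iff.2 fun a => mem_centralizer_singleton_iff.1 (this (mem_top a))

theorem ab3 (h : closure ({x, y, z} : Set P) = ⊤) (h1 : Commute x y) (h2 : Commute x z) (h3 : Commute y z) :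
    center P = ⊤ := by
  rw [eq_top_iff, ← h, closure_le]
  rintro a (rfl | rfl | rfl)
  exacts [cen3 h (.refl _) h1.symm h2.symm, cen3 h h1 (.refl _) h3.symm, cen3 h h2 h3 (.refl _)]

theorem gen_map (h : closure ({x, y, z} : Set P) = ⊤) (N : Subgroup P) [N.Normal] :
    closure ({(x : P ⧸ N), (y : P ⧸ N), (z : P ⧸ N)} : Set (P ⧸ N)) = ⊤ := by
  have := congrArg (map (QuotientGroup.mk' N)) h
  rw [MonoidHom.map_closure, map_top_of_surjective _ (QuotientGroup.mk'_surjective N)] at this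
  simpa [Set.image_insert_eq] using this

theorem comm_mk {N : Subgroup P} [N.Normal] : Commute (x : P ⧸ N) y ↔ ⁅x, y⁆ ∈ N := by
  rw [← commutatorElement_eq_one_iff_commute, ← QuotientGroup.eq_one_iff]
  rfl

theorem comm_le (h : closure ({x, y, z} : Set P) = ⊤) (N : Subgroup P) [N.Normal] (h1 : ⁅x, y⁆ ∈ N) (h2 : ⁅x, z⁆ ∈ N)
    (h3 : ⁅y, z⁆ ∈ N) : commutator P ≤ N := by
  have := ab3 (gen_map h N) (comm_mk.2 h1) (comm_mk.2 h2) (comm_mk.2 h3)
  exact commutator_le.2 fun a _ b _ => comm_mk.1 (mem_center_iff.1 (this.ge (mem_top (b : P ⧸ N))) (a : P ⧸ N))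

theorem normal_zp (h : g ∈ center P) : (zpowers g).Normal :=
  ⟨fun a ha b => by rwa [mem_center_iff.1 (zpowers_le.2 h ha) b, mul_inv_cancel_right]⟩

theorem cm_of (h : x⁻¹ * g * x = g) : Commute x g :=
  calc x * g = x * (x⁻¹ * g * x) := by rw [h]
    _ = g * x := by group

/-- the second family -/
theorem fam2 (h : closure ({x, y, z} : Set P) = ⊤) (h1 : x * z = z * x) (h2 : y * z = z * y) {k : ℕ}
    (h3 : x⁻¹ * y * x = y * z ^ k) : z ∈ center P ∧ commutator P ≤ zpowers (z ^ k) := by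
  have hz : z ∈ center P := cen3 h h1 h2 (.refl _)
  have := normal_zp (pow_mem hz k)
  refine ⟨hz, comm_le h _ ?_ ?_ ?_⟩
  · have e : ⁅x, y⁆ = (y * x) * (z ^ k)⁻¹ * (y * x)⁻¹ := by
      rw [show z ^ k = y⁻¹ * (x⁻¹ * y * x) by rw [h3]; group, commutatorElement_def]; group
    exact e ▸ this.conj_mem _ (inv_mem (mem_zpowers _)) _
  · rw [commutatorElement_eq_one_iff_mul_comm.2 h1]; exact one_mem _
  · rw [commutatorElement_eq_one_iff_mul_comm.2 h2]; exact one_mem _

/-- the third family -/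
theorem fam3 (h : closure ({x, y, z} : Set P) = ⊤) (hy : y ^ p = 1) (h2 : y * z = z * y) {k : ℕ}
    (h3 : x⁻¹ * y * x = y * z ^ (p * k)) (h4 : x⁻¹ * z * x = y * z) :
    z ^ p ∈ center P ∧ (∀ c ∈ commutator P, ∃ i j : ℤ, c = y ^ i * (z ^ (p * k)) ^ j) ∧
      γ[P, 2] ≤ zpowers (z ^ (p * k)) := by
  have h2' : Commute y z := h2
  have hz : z ^ p ∈ center P := by
    refine cen3 h ?_ (h2'.pow_right p) ((Commute.refl z).pow_right p)
    have : x⁻¹ * z ^ p * x = z ^ p := by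
      have := conj_pow (a := x⁻¹) (b := z) (i := p)
      rw [inv_inv, h4, h2'.mul_pow, hy, one_mul] at this
      exact this.symm
    exact cm_of this
  have hw : z ^ (p * k) ∈ center P := pow_mul z p k ▸ pow_mem hz k
  have := normal_zp hw
  have g := gen_map h (zpowers (z ^ (p * k)))
  have hc : (y : P ⧸ zpowers (z ^ (p * k))) ∈ center _ := by
    refine cen3 g (comm_mk.2 ?_) (.refl _) (h2'.symm.map (QuotientGroup.mk' _))
    have e : ⁅x, y⁆ = (y * x) * (z ^ (p * k))⁻¹ * (y * x)⁻¹ := by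
      rw [show z ^ (p * k) = y⁻¹ * (x⁻¹ * y * x) by rw [h3]; group, commutatorElement_def]; group
    exact e ▸ this.conj_mem _ (inv_mem (mem_zpowers _)) _
  have n2 := normal_zp hc
  have hl : commutator (P ⧸ zpowers (z ^ (p * k))) ≤ zpowers (y : P ⧸ zpowers (z ^ (p * k))) := by
    refine comm_le g _ ?_ ?_ ?_
    · rw [commutatorElement_eq_one_iff_mul_comm.2 (mem_center_iff.1 hc _)]; exact one_mem _
    · have e : ⁅x, z⁆ = (z * x * z⁻¹) * y⁻¹ * (z * x * z⁻¹)⁻¹ := by
        rw [show y = (x⁻¹ * z * x) * z⁻¹ by rw [h4]; group, commutatorElement_def]; group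
      have : (⁅(x : P ⧸ zpowers (z ^ (p * k))), (z : P ⧸ zpowers (z ^ (p * k)))⁆) = (⁅x, z⁆ : P) := rfl
      rw [this, e]
      exact n2.conj_mem _ (inv_mem (mem_zpowers _)) ((z * x * z⁻¹ : P) : P ⧸ _)
    · rw [commutatorElement_eq_one_iff_mul_comm.2 (mem_center_iff.1 hc _).symm]; exact one_mem _
  have hm : ∀ c ∈ commutator P, (c : P ⧸ zpowers (z ^ (p * k))) ∈ zpowers (y : P ⧸ zpowers (z ^ (p * k))) :=
    fun c hc => hl (by
      have := mem_map_of_mem (QuotientGroup.mk' (zpowers (z ^ (p * k)))) hc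
      rw [_root_.commutator_def, map_commutator] at this
      exact commutator_mono le_top le_top this)
  refine ⟨hz, fun c hc => ?_, commutator_le.2 fun c hc' a _ => comm_mk.1 ?_⟩
  · obtain ⟨i, hi⟩ := hm c hc
    obtain ⟨j, hj⟩ := QuotientGroup.eq.1 (show ((y ^ i : P) : P ⧸ zpowers (z ^ (p * k))) = c from hi)
    exact ⟨i, j, by rw [show (z ^ (p * k)) ^ j = _ from hj]; group⟩
  · exact (mem_center_iff.1 (zpowers_le.2 hc (hm c hc')) _).symm

variable [hp : Fact p.Prime] [Finite P]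

theorem maxCl (hP : Nat.card P = p ^ n) (h3 : 3 ≤ n) (h : γ[P, n - 2] ≠ ⊥) : Fgs.MaxCl p n P := by
  have := (IsPGroup.of_card hP).isNilpotent
  have h1 := Grp.nilpotencyClass_le_of_card_dvd_pow (p := p) (n - 2) P (by rw [hP, Nat.sub_add_cancel (by omega)])
  have h2 := mt Subgroup.lowerCentralSeries_eq_bot_iff_nilpotencyClass_le.2 h
  exact ⟨hP, h3, by omega⟩

theorem cs3 (h : Fgs.MaxCl 3 n P) (h4 : 4 ≤ n) : MX.Cs 3 n ⊤ (MX.CHT.gam P) := by
  have c := MX.CHT.ch h h4 (by decide)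
  refine c.cs (by omega) (by_contra fun k => ?_)
  have := MX.SLx.exc c h4 k
  omega

theorem lcs_two (hP : Nat.card P = p ^ n) (h3 : n ≤ 3) : γ[P, 2] = ⊥ := by
  have := (IsPGroup.of_card hP).isNilpotent
  exact Subgroup.lowerCentralSeries_eq_bot_iff_nilpotencyClass_le.2
    (Grp.nilpotencyClass_le_of_card_dvd_pow (p := p) 1 P (hP ▸ pow_dvd_pow p h3))

theorem tc4 {W F : Subgroup P} (h : Fgs.MaxCl 3 n P) (h4 : 4 ≤ n) (hrk : PRankLE 3 2 P) (hW : IsCoatom W) [F.Normal]
    (f1 : ⁅W, W⁆ ≤ F) (f2 : ∀ x ∈ W, x ^ 3 ∈ F) (f3 : F ≤ W) : γ[P, 2] ≤ F := by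
  have c := cs3 h h4
  have hc : MX.CHT.gam P 2 ≤ W := (Grp.commutator_le_frattini h.isPGroup).trans (frattini_le_coatom hW)
  obtain ⟨u, uF, u1, u4⟩ : ∃ u ∈ F, u ∈ MX.CHT.gam P 1 ∧ u ∉ MX.CHT.gam P 4 := by
    by_cases k : W ≤ MX.CHT.gam P 1
    · have e : W = MX.CHT.gam P 1 := by
        by_contra ne
        obtain ⟨a, -, ha⟩ := c.toCh.ex (j := 0) (by omega)
        exact ha ((hW.2 _ (lt_of_le_of_ne k ne)).ge (mem_top a))
      by_cases n5 : 5 ≤ n
      · obtain ⟨a, ha, ha'⟩ := c.toCh.ex (j := 1) (by omega)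
        exact ⟨a ^ 3, f2 a (e ▸ ha), pow_mem ha 3, fun l => ha' ((MX.SLx.per c le_rfl n5 le_rfl (by omega) ha).2 l)⟩
      by_contra! l
      have b : F = ⊥ := eq_bot_iff.2 fun u hu => (c.bot 4 (by omega)).le (l u hu (k (f3 hu)))
      have := hrk W ⟨⟨fun a b' => Subtype.ext (commutatorElement_eq_one_iff_mul_comm.1
        (mem_bot.1 (b ▸ f1 (commutator_mem_commutator a.2 b'.2))))⟩⟩ fun a ha => mem_bot.1 (b ▸ f2 a ha)
      rw [e, c.toCh.card (by omega), show n = 4 by omega] at this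
      omega
    · obtain ⟨m, mW, m1⟩ := SetLike.not_le_iff_exists.1 k
      obtain ⟨a, ha, ha'⟩ := c.toCh.ex (j := 2) (by omega)
      exact ⟨⁅a, m⁆, f1 (commutator_mem_commutator (hc ha) mW), c.anti (show 1 ≤ 3 by omega) (c.toCh.comm ha (mem_top m)),
        c.sun 2 (by omega) h4 a ha ha' m (mem_top m) m1⟩
  obtain ⟨j, j1, j4, uj, uj'⟩ := c.toCh.level u1 u4
  obtain ⟨s, hs⟩ := c.toCh.exists_un (by omega)
  refine (c.anti (show j ≤ 3 by omega)).trans (c.toCh.le_of_level hs (fun a ha => ?_) j1 uF uj uj')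
  exact commutator_le_left F ⊤ (commutator_mem_commutator ha (mem_top s))

theorem tc {W F : Subgroup P} (hp2 : p ≠ 2) (hP : Nat.card P = p ^ n) (hrk : PRankLE p 2 P) (hW : IsCoatom W)
    [F.Normal] (f1 : ⁅W, W⁆ ≤ F) (f2 : ∀ x ∈ W, x ^ p ∈ F) (f3 : F ≤ W) : γ[P, p - 1] ≤ F := by
  have p3 : 3 ≤ p := by have := hp.out.two_le; omega
  have pg := IsPGroup.of_card hP
  have l2 : γ[P, p - 1] ≤ γ[P, 2] := Subgroup.lowerCentralSeries_antitone _ (by omega)
  have hc : commutator P ≤ W := (Grp.commutator_le_frattini pg).trans (frattini_le_coatom hW)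
  have hw (a : P) : a ^ p ∈ W := frattini_le_coatom hW (Grp.pow_mem_frattini pg a)
  by_cases h4 : n ≤ 3
  · exact l2.trans (lcs_two hP h4 ▸ bot_le)
  have t4 : p = 3 → γ[P, n - 2] ≠ ⊥ → γ[P, p - 1] ≤ F := by
    rintro rfl k
    exact tc4 (maxCl hP (by omega) k) (by omega) hrk hW f1 f2 f3
  rcases Cfsg.Agent.S3888.result hp2 n hP hrk with ⟨N, _, c1, c2⟩ | ⟨-, x, y, z, h, -, -, -, h1, h2, h3⟩ |
    ⟨-, s, x, y, z, -, h, -, hy, hz, h2, h3, h4'⟩ | ⟨e, -, k⟩
  · have : commutator P ≤ N := commutator_le.2 fun a _ b _ => comm_mk.1 (mul_comm' (a : P ⧸ N) (b : P ⧸ N))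
    have : IsCyclic (commutator P) := isCyclic_of_injective _ (inclusion_injective this)
    obtain ⟨c, hc'⟩ := (isCyclic_iff_exists_zpowers_eq_top.1 this)
    have e : commutator P = zpowers (c : P) := by
      have := MonoidHom.map_zpowers (commutator P).subtype c
      rwa [hc', ← MonoidHom.range_eq_map, range_subtype] at this
    refine l2.trans fun u hu => ?_
    obtain ⟨k, rfl⟩ := (mem_powers_iff_mem_zpowers.2 (e.le (Subgroup.lowerCentralSeries_antitone ⊤ (show 1 ≤ 2 by omega) hu)))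
    by_cases d : p ∣ k
    · obtain ⟨k, rfl⟩ := d
      simp only [mul_comm p, pow_mul]
      exact f2 _ (pow_mem (hc c.2) k)
    have l : γ[P, 1] ≤ γ[P, 2] := by
      obtain ⟨m, hm⟩ := IsPGroup.iff_orderOf.1 pg c
      obtain ⟨j, hj⟩ := exists_pow_eq_self_of_coprime (x := (c : P)) (n := k)
        (hm ▸ ((hp.out.coprime_iff_not_dvd.2 d).symm.pow_right m))
      exact e.le.trans (zpowers_le.2 (hj ▸ pow_mem hu j))
    have l' : ∀ j, γ[P, 1] ≤ γ[P, j + 1] := fun j => by
      induction j with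
      | zero => rfl
      | succ j ih => exact l.trans (commutator_mono ih le_rfl)
    obtain ⟨j, hj⟩ := Subgroup.nilpotent_iff_lowerCentralSeries.1 pg.isNilpotent
    have := (l' j).trans (Subgroup.lowerCentralSeries_antitone _ j.le_succ)
    rw [mem_bot.1 (hj.le (this (Subgroup.lowerCentralSeries_antitone ⊤ (show 1 ≤ 2 by omega) hu)))]
    exact one_mem _
  · obtain ⟨hz, k⟩ := fam2 h h1 h2 h3
    refine l2.trans (commutator_le.2 fun a ha b _ => ?_)
    rw [commutatorElement_eq_one_iff_mul_comm.2 (mem_center_iff.1 (zpowers_le.2 (pow_mem hz _) (k ha)) b).symm]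
    exact one_mem _
  · obtain ⟨m, rfl⟩ : ∃ m, n = m + 4 := ⟨n - 4, by omega⟩
    rw [show s * p ^ (m + 4 - 3) = p * (s * p ^ m) by rw [show m + 4 - 3 = m + 1 by omega]; ring] at h3
    obtain ⟨c1, -, c3⟩ := fam3 h hy h2 h3 h4'
    by_cases e : p = 3
    · rcases m with _ | m
      · by_cases k : γ[P, 2] = ⊥
        · exact l2.trans (k ▸ bot_le)
        · exact t4 e k
      refine l2.trans (c3.trans (zpowers_le.2 ?_))
      rw [show p * (s * p ^ (m + 1)) = p * (s * p ^ m) * p by ring, pow_mul, pow_mul]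
      exact f2 _ (pow_mem (hw z) _)
    refine (Subgroup.lowerCentralSeries_antitone _ (show 3 ≤ p - 1 by
      have : p ≠ 4 := by rintro rfl; exact absurd hp.out (by decide)
      omega)).trans (commutator_le.2 fun a ha b _ => ?_)
    rw [commutatorElement_eq_one_iff_mul_comm.2
      (mem_center_iff.1 (zpowers_le.2 (pow_mul z p _ ▸ pow_mem c1 _) (c3 ha)) b).symm]
    exact one_mem _
  · exact t4 e k

theorem iter_mem (x z : P) (k : ℕ) : (fun y : P => y⁻¹ * z⁻¹ * y * z)^[k] x ∈ γ[P, k] := by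
  induction k with
  | zero => exact mem_top x
  | succ k ih =>
    rw [Function.iterate_succ_apply']
    have := commutator_mem_commutator (inv_mem ih) (mem_top z⁻¹)
    rwa [commutatorElement_def, inv_inv, inv_inv] at this

theorem tc' (hp2 : p ≠ 2) (pg : IsPGroup p P) (hrk : PRankLE p 2 P) {W : Subgroup P} (hW : IsCoatom W) (x z : P) :
    (fun y : P => y⁻¹ * z⁻¹ * y * z)^[p - 1] x ∈ (frattini W).map W.subtype := by
  obtain ⟨n, hP⟩ := IsPGroup.iff_card.1 pg
  have : W.Normal := ⟨fun a ha b => by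
    have : ⁅b, a⁆ * a ∈ W := mul_mem ((Grp.commutator_le_frattini pg).trans (frattini_le_coatom hW)
      (commutator_mem_commutator (mem_top b) (mem_top a))) ha
    rwa [commutatorElement_def, inv_mul_cancel_right] at this⟩
  obtain ⟨f1, f2⟩ := (Grp.map_subtype_frattini_le_iff (pg.to_subgroup W)).1 le_rfl
  exact tc hp2 hP hrk hW f1 f2 (map_subtype_le _) (iter_mem x z _)

end CL.IsoRk2
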