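/-
p-groups of rank two, p odd, with a group of automorphisms that fixes a central element of order p and has no fixed
points on the abelian quotients.
-/
import Cfsg.Agent.Loc.IsoRk2a
import Cfsg.Agent.MX.WTm
import Cfsg.Agent.Even.Isolated2
import Cfsg.Agent.Fus.SubGrp

set_option autoImplicit false

namespace CL.IsoRk2

open Subgroup Cfsg
open scoped commutatorElement Pointwise

local notation "γ[" G ", " j "]" => Subgroup.lowerCentralSeries (⊤ : Subgroup G) j

variable {P : Type*} [Group P] {p n : ℕ} {x y z g : P}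

/-- no fixed points on the invariant abelian quotients -/
def FP (A : Set (MulAut P)) : Prop :=
  ∀ M : Subgroup P, commutator P ≤ M → (∀ a ∈ A, ∀ m ∈ M, a m ∈ M) → ∀ g, (∀ a ∈ A, g⁻¹ * a g ∈ M) → g ∈ M

theorem char_mem {M : Subgroup P} [h : M.Characteristic] (a : MulAut P) (hg : g ∈ M) : a g ∈ M :=
  (characteristic_iff_le_comap.1 h a) hg

variable [hp : Fact p.Prime] {A : Set (MulAut P)}

theorem key (hp2 : p ≠ 2) (fp : FP A) (h1 : ∀ c ∈ commutator P, c ^ p = 1)
    (h2 : commutator P ≤ centralizer (commutator P : Set P)) (hz : z ∈ centralizer (commutator P : Set P)) {k : ℕ}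
    (h : ∀ a ∈ A, a (z ^ p ^ (k + 1)) = z ^ p ^ (k + 1)) : z ^ p ^ (k + 1) = 1 := by
  set C := centralizer (commutator P : Set P) with hC
  have p3 : 3 ≤ p := by have := hp.out.two_le; omega
  have m1 : ∀ a ∈ C, ∀ b ∈ C, (a * b) ^ p = a ^ p * b ^ p := fun a ha b hb => by
    have := Fgs.mul_pow_prime_mem hp.out ha hb ⊥ (fun c hc => h1 c (commutator_mono le_top le_top hc))
      ((C.lowerCentralSeries_antitone (show 2 ≤ p - 1 by omega)).trans (commutator_le.2 fun u hu v hv =>
        commutatorElement_eq_one_iff_mul_comm.2 (hv u (commutator_mono le_top le_top hu))))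
    exact (inv_mul_eq_one.1 this).symm
  have m : ∀ j, ∀ a ∈ C, ∀ b ∈ C, (a * b) ^ p ^ j = a ^ p ^ j * b ^ p ^ j := fun j => by
    induction j with
    | zero => simp
    | succ j ih =>
      intro a ha b hb
      rw [pow_succ, pow_mul, ih a ha b hb, m1 _ (pow_mem ha _) _ (pow_mem hb _), pow_mul, pow_mul]
  let M : Subgroup P :=
    { carrier := {g | g ∈ C ∧ g ^ p ^ (k + 1) = 1}
      one_mem' := ⟨one_mem _, one_pow _⟩
      mul_mem' := fun {a b} ha hb => ⟨mul_mem ha.1 hb.1, by rw [m _ a ha.1 b hb.1, ha.2, hb.2, one_mul]⟩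
      inv_mem' := fun {a} ha => ⟨inv_mem ha.1, by rw [inv_pow, ha.2, inv_one]⟩ }
  refine (fp M (fun c hc => ⟨h2 hc, by rw [pow_succ', pow_mul, h1 c hc, one_pow]⟩)
    (fun a _ g hg => ⟨char_mem a hg.1, by rw [← map_pow, hg.2, map_one]⟩) z fun a ha =>
      ⟨mul_mem (inv_mem hz) (char_mem a hz), ?_⟩).2
  rw [m _ _ (inv_mem hz) _ (char_mem a hz), ← map_pow, h a ha, inv_pow, inv_mul_cancel]

theorem fix_of (h : ∀ a ∈ A, a y = y) (hg : g ∈ zpowers y) : ∀ a ∈ A, a g = g := fun a ha => by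
  obtain ⟨k, rfl⟩ := hg
  simp only [map_zpow, h a ha]

variable [Finite P]

theorem mem_zp (hrk : PRankLE p 2 P) (y1 : y ≠ 1) (yp : y ^ p = 1) (yc : y ∈ center P) (gp : g ^ p = 1)
    (gc : g ∈ center P) (xp : x ^ p = 1) (xc : x ∉ center P) : g ∈ zpowers y := by
  by_contra k
  have l : zpowers y ⊔ zpowers g ≤ center P := sup_le (zpowers_le.2 yc) (zpowers_le.2 gc)
  have e := Loc.ea_sup (Loc.ea_zpowers yp) (Loc.ea_zpowers gp)
    ((zpowers_le.2 yc).trans (center_le_centralizer _))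
  refine xc (l (Even.mem_of_pRankLE hrk e ?_ xp fun a ha => (mem_center_iff.1 (l ha) x).symm))
  obtain ⟨j, hj⟩ := Loc.ea_card_eq_pow e
  have : Nat.card (zpowers y) < Nat.card (zpowers y ⊔ zpowers g : Subgroup P) := by
    refine lt_of_le_of_ne (card_le_of_le le_sup_left) fun c => k ?_
    exact (eq_of_le_of_card_ge le_sup_left c.ge).ge (mem_sup_right (mem_zpowers g))
  rw [Nat.card_zpowers, orderOf_eq_prime yp y1, hj] at this
  rw [hj]
  refine Nat.pow_le_pow_right hp.out.pos (by_contra fun c => ?_)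
  have := Nat.pow_le_pow_right hp.out.pos (show j ≤ 1 by omega)
  rw [pow_one] at this
  omega

theorem card_zp {k : ℕ} (hk : k ≠ 0) (h : g ^ k = 1) : Nat.card (zpowers g) ≤ k :=
  Nat.card_zpowers g ▸ orderOf_le_of_pow_eq_one (Nat.pos_of_ne_zero hk) h

theorem card_sup {H K : Subgroup P} (h : H ≤ normalizer (K : Set P)) :
    Nat.card (H ⊔ K : Subgroup P) ≤ Nat.card H * Nat.card K := by
  have := Set.natCard_mul_le (s := (H : Set P)) (t := (K : Set P))
  rwa [← coe_mul_of_left_le_normalizer_right H K h] at this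

theorem lvl4 (h : Fgs.MaxCl 3 n P) (h4 : 4 ≤ n) (fp : FP A) (y1 : y ≠ 1) (yp : y ^ 3 = 1) (yc : y ∈ center P)
    (ya : ∀ a ∈ A, a y = y) : Odd n := by
  have c := cs3 h h4
  refine Nat.not_even_iff_odd.1 fun ⟨k, hk⟩ => ?_
  obtain ⟨g, g1, g2⟩ := c.toCh.ex (j := 1) (by omega)
  refine g2 (fp (commutator P) le_rfl (fun a _ _ hm => char_mem a hm) g fun a ha => ?_)
  have au : MX.Au ⊤ (MX.CHT.gam P) a := MX.WTx.of c.toCh h4 (fun u _ v _ => map_mul a u v) a.injective.injOn
    fun u _ => mem_top _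
  obtain ⟨c0, c00, w0⟩ := MX.WTx.ex' c.toCh (u := 0) (by omega) au
  obtain ⟨d, -, w1⟩ := MX.WTx.ex' c.toCh (u := 1) (by omega) au
  have w := MX.WTx.chain c.toCh au w0 w1 (m := n - 1) (u := n - 1) (by omega)
    (fun u a b => ⟨c.sc u 1 a le_rfl, c.sun u a (by omega)⟩) (by omega) le_rfl y (by
      rw [show n - 1 = n - 2 + 1 by omega, MX.CHT.gam_succ (by omega), ← h.center_eq]; exact yc)
  rw [c.bot _ (by omega)] at w
  have e := MX.val_eq (K := ⊥) (c' := 1) y1 yp w (by rw [ZMod.val_one, pow_one, ya a ha]; simp)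
  have : c0 ^ 2 = 1 := (by decide : ∀ c : ZMod 3, c ≠ 0 → c ^ 2 = 1) c0 c00
  rw [show n - 1 - 1 = 2 * (k - 1) by omega, pow_mul, this, one_pow, mul_one] at e
  have := w1 g g1
  rwa [e, ZMod.val_one, pow_one] at this

theorem lvl2 (hp2 : p ≠ 2) (hP : Nat.card P = p ^ n) (hrk : PRankLE p 2 P) (hm : ¬ IsMetacyclic P) (fp : FP A)
    (y1 : y ≠ 1) (yp : y ^ p = 1) (yc : y ∈ center P) (ya : ∀ a ∈ A, a y = y) :
    (IsExtraspecial p P ∧ Nat.card P = p ^ 3 ∧ ∀ g : P, g ^ p = 1) ∨
      (p = 3 ∧ ∃ k, 2 ≤ k ∧ Nat.card P = 3 ^ (2 * k + 1) ∧ Group.nilpotencyClass P = 2 * k) := by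
  have na : center P ≠ ⊤ := fun k => y1 (fp ⊥ (commutator_le.2 fun a _ b _ =>
    commutatorElement_eq_one_iff_mul_comm.2 (mem_center_iff.1 (k.ge (mem_top b)) a)) (fun a _ m hm => by
      rw [mem_bot.1 hm, map_one]; exact one_mem _) y fun a ha => by rw [ya a ha, inv_mul_cancel]; exact one_mem _)
  have na' : ¬ IsMulCommutative P := fun _ => na (eq_top_iff.2 fun a _ => mem_center_iff.2 fun b => mul_comm' b a)
  have h3 : 3 ≤ n := by_contra fun k =>
    na' (Grp.isMulCommutative_of_card_dvd_prime_sq (p := p) (hP ▸ pow_dvd_pow p (by omega)))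
  rcases h3.eq_or_lt with rfl | h4
  · have e := Fus.isExtraspecial_of_card_eq_cube hP na'
    have c : zpowers y = center P := eq_of_le_of_card_ge (zpowers_le.2 yc)
      (by rw [e.2, Nat.card_zpowers, orderOf_eq_prime yp y1])
    have c' : centralizer (commutator P : Set P) = ⊤ := by
      rw [e.1.2.2]; exact eq_top_iff.2 fun a _ b hb => (mem_center_iff.1 hb a).symm
    refine Or.inl ⟨e, hP, fun g => ?_⟩
    have := key (k := 0) (z := g) hp2 fp (fun u hu => (Loc.ea_zpowers yp).2 u (c.ge (e.1.2.2.le hu))) (c'.ge.trans' le_top)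
      (c'.ge (mem_top g)) (fix_of ya (by
        rw [c, ← e.1.2.1, zero_add, pow_one]; exact Grp.pow_mem_frattini e.1.1 g))
    rwa [zero_add, pow_one] at this
  obtain ⟨m, rfl⟩ : ∃ m, n = m + 4 := ⟨n - 4, by omega⟩
  have pw {z : P} (hz : z ^ p ^ (m + 4 - 2) = 1) : (z ^ p ^ (m + 1)) ^ p = 1 := by rwa [← pow_mul, ← pow_succ]
  rcases Cfsg.Agent.S3888.result hp2 _ hP hrk with k | ⟨-, x, w, z, h, hx, -, hz, h1, h2, h3⟩ |
    ⟨-, s, x, w, z, -, h, hx, hw, hz, h2, h3, h4'⟩ | ⟨e, -, k⟩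
  · exact absurd k hm
  · obtain ⟨zc, k⟩ := fam2 h h1 h2 h3
    have xc : x ∉ center P := fun c => na (ab3 h (mem_center_iff.1 c w).symm h1 h2)
    have := key (k := m) hp2 fp (fun u hu => (Loc.ea_zpowers (pw hz)).2 u (k hu))
      (k.trans ((zpowers_le.2 (pow_mem zc _)).trans (center_le_centralizer _))) (center_le_centralizer _ zc)
      (fix_of ya (mem_zp hrk y1 yp yc (pw hz) (pow_mem zc _) hx xc))
    rw [show m + 4 - 3 = m + 1 from rfl, this, mul_one] at h3
    exact absurd (ab3 h (cm_of h3) h1 h2) na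
  · have e : s * p ^ (m + 4 - 3) = p * (s * p ^ m) := by rw [show m + 4 - 3 = m + 1 by omega]; ring
    rw [e] at h3
    obtain ⟨c1, c2, -⟩ := fam3 h hw h2 h3 h4'
    have h2' : Commute w z := h2
    have e' : z ^ (p * (s * p ^ m)) = (z ^ p ^ (m + 1)) ^ s := by rw [← pow_mul]; congr 1; ring
    have xc : x ∉ center P := fun c => na (ab3 h (mem_center_iff.1 c w).symm (mem_center_iff.1 c z).symm h2)
    have cz : ∀ g, Commute w g → Commute z g → g ∈ centralizer (commutator P : Set P) := fun g a b u hu => by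
      obtain ⟨i, j, rfl⟩ := c2 u hu
      exact (a.zpow_left i).mul_left ((b.pow_left _).zpow_left j)
    have := key (k := m) (z := z) hp2 fp (fun u hu => by
        obtain ⟨i, j, rfl⟩ := c2 u hu
        rw [(((h2'.pow_right _).zpow_right j).zpow_left i).mul_pow, (Loc.ea_zpowers hw).2 _ (zpow_mem_zpowers w i), e',
          (Loc.ea_zpowers (pw hz)).2 _ (zpow_mem (pow_mem (mem_zpowers _) s) j), one_mul])
      (fun u hu => by
        obtain ⟨i, j, rfl⟩ := c2 u hu
        exact cz _ (((Commute.refl w).zpow_right i).mul_right ((h2'.pow_right _).zpow_right j))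
          ((h2'.symm.zpow_right i).mul_right (((Commute.refl z).pow_right _).zpow_right j)))
      (cz z h2' (.refl z)) (fix_of ya (mem_zp hrk y1 yp yc (pw hz) (by
        rw [pow_succ', pow_mul]; exact pow_mem c1 _) hx xc))
    rw [e', this, one_pow, mul_one] at h3
    have wc : w ∈ center P := cen3 h (cm_of h3) (.refl w) h2'.symm
    have l : commutator P ≤ zpowers w ⊔ zpowers z := fun u hu => by
      obtain ⟨i, j, rfl⟩ := c2 u hu
      exact mul_mem (mem_sup_left (zpow_mem_zpowers w i)) (mem_sup_right (zpow_mem (pow_mem (mem_zpowers z) _) j))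
    have nn : (zpowers w ⊔ zpowers z).Normal := ⟨fun a ha b => by
      have := mul_mem (l (commutator_mem_commutator (mem_top b) (mem_top a))) ha
      rwa [commutatorElement_def, inv_mul_cancel_right] at this⟩
    have t : zpowers x ⊔ (zpowers w ⊔ zpowers z) = ⊤ := by
      rw [eq_top_iff, ← h, closure_le]
      rintro a (rfl | rfl | rfl)
      exacts [mem_sup_left (mem_zpowers _), mem_sup_right (mem_sup_left (mem_zpowers _)),
        mem_sup_right (mem_sup_right (mem_zpowers _))]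
    have p0 := hp.out.ne_zero
    have b := (card_sup (H := zpowers x) (K := zpowers w ⊔ zpowers z) le_normalizer_of_normal).trans
      (Nat.mul_le_mul (card_zp p0 hx) ((card_sup ((zpowers_le.2 wc).trans (center_le_normalizer _))).trans
        (Nat.mul_le_mul (card_zp p0 hw) (card_zp (pow_ne_zero _ p0) this))))
    rw [t, card_top, hP, ← pow_succ', ← pow_succ', Nat.pow_le_pow_iff_right hp.out.one_lt] at b
    omega
  · subst e
    have mc := maxCl hP h3 k
    obtain ⟨j, hj⟩ := lvl4 mc h4 fp y1 yp yc ya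
    exact Or.inr ⟨rfl, j, by omega, hj ▸ hP, by rw [mc.cl]; omega⟩

end CL.IsoRk2
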