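/-
Perfect groups of p-rank two, p odd, in which the normalizer of a Sylow p-subgroup centralizes an element of order p
of that subgroup.
-/
import Cfsg.Agent.Loc.IsoRk2b
import Cfsg.Agent.S2792
import Cfsg.Agent.S1447
import Cfsg.Agent.Transfer.Control
import Cfsg.Agent.Grp.Coprime
import Cfsg.Agent.Odd.BG4b

set_option autoImplicit false

namespace CL.IsoRk2

open Subgroup Cfsg
open scoped commutatorElement Pointwise

variable {G : Type*} [Group G] [Finite G] {p : ℕ} [hp : Fact p.Prime] (S : Sylow p G)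

local notation "𝒩" => normalizer ((S : Subgroup G) : Set G)

theorem fpK (hS : (S : Subgroup G) ≤ ⁅𝒩, 𝒩⁆) {M : Subgroup G} (h1 : ⁅(S : Subgroup G), (S : Subgroup G)⁆ ≤ M)
    (h2 : ∀ h ∈ 𝒩, ∀ m ∈ M, h * m * h⁻¹ ∈ M) {g : G} (hg : g ∈ (S : Subgroup G))
    (h3 : ∀ h ∈ 𝒩, g⁻¹ * (h * g * h⁻¹) ∈ M) : g ∈ M := by
  have n : (M.subgroupOf 𝒩).Normal := ⟨fun m hm h => h2 h h.2 m hm⟩
  have l : (S : Subgroup G) ≤ 𝒩 := le_normalizer
  let π := QuotientGroup.mk' (M.subgroupOf 𝒩)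
  let T := (S.subtype l).mapSurjective (QuotientGroup.mk'_surjective (M.subgroupOf 𝒩))
  have := Transfer.inf_commutator_inf_center_le_of_hall T.toSubgroup T.card_coprime_index
    (x := π ⟨g, l hg⟩) ⟨⟨⟨⟨g, l hg⟩, hg, rfl⟩, by
      obtain ⟨u, hu, e⟩ := (𝒩).map_subtype_commutator.ge (hS hg)
      have := mem_map_of_mem π hu
      rw [_root_.commutator_def, map_commutator, show u = ⟨g, l hg⟩ from Subtype.ext e] at this
      exact commutator_mono le_top le_top this⟩, mem_center_iff.2 fun a => by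
        obtain ⟨a, rfl⟩ := QuotientGroup.mk'_surjective _ a
        have : π ⟨g, l hg⟩ = π (a * ⟨g, l hg⟩ * a⁻¹) := QuotientGroup.eq.2 (h3 a a.2)
        nth_rewrite 2 [this]
        simp only [map_mul, map_inv, inv_mul_cancel_right, π]⟩
  have b : ⁅T.toSubgroup, T.toSubgroup⁆ ≤ ⊥ := commutator_le.2 (by
    rintro _ ⟨a, ha, rfl⟩ _ ⟨b, hb, rfl⟩
    rw [← map_commutatorElement]
    exact (QuotientGroup.eq_one_iff _).2 (h1 (commutator_mem_commutator ha hb)))
  exact (QuotientGroup.eq_one_iff (N := M.subgroupOf 𝒩) ⟨g, l hg⟩).1 (b this)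

theorem le_comm (hp2 : p ≠ 2) (hG : commutator G = ⊤) (hrk : PRankLE p 2 G) : (S : Subgroup G) ≤ ⁅𝒩, 𝒩⁆ := by
  by_contra k
  obtain ⟨x, hx, z, hz, W, hW, -, h⟩ := Cfsg.Agent.S2792.result S S ⟨le_rfl, fun g h => eq_of_le_of_card_ge h
    (card_map_of_injective (MulAut.conj g).injective).ge⟩ fun e => k (by
      rw [hG, inf_top_eq] at e; exact e.le.trans inf_le_right)
  refine h ⟨_, tc' hp2 S.isPGroup' (Odd.pRankLE_subgroup hrk S) hW ⟨x, hx⟩ ⟨z, hz⟩, ?_⟩
  exact (Function.Semiconj.iterate_right (f := (S : Subgroup G).subtype) (fun _ => rfl) (p - 1) ⟨x, hx⟩)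

theorem not_meta (hp2 : p ≠ 2) (hS : (S : Subgroup G) ≤ ⁅𝒩, 𝒩⁆) {y : G} (hy : y ∈ (S : Subgroup G)) (y1 : y ≠ 1)
    (hc : 𝒩 ≤ centralizer {y}) : ¬ IsMetacyclic S := fun hm => by
  have l : (S : Subgroup G) ≤ 𝒩 := le_normalizer
  have co : (Nat.card S).Coprime ((S : Subgroup G).relIndex 𝒩) :=
    S.card_coprime_index.coprime_dvd_right (relIndex_dvd_index_of_le l)
  obtain ⟨A, A1, A2, -, A4⟩ := Grp.exists_complement_in l le_rfl co
  have fy : ∀ h ∈ 𝒩, y⁻¹ * (h * y * h⁻¹) = 1 := fun h hh => by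
    rw [mem_centralizer_singleton_iff.1 (hc hh)]; group
  obtain ⟨-, -, h3, h4⟩ := Cfsg.Agent.S1447.result p hp2 S A S.isPGroup' hm A1 (by
    rw [A4, Nat.coprime_comm, hp.out.coprime_iff_not_dvd]
    exact fun d => S.not_dvd_index (d.trans (relIndex_dvd_index_of_le l)))
  have cj : ∀ h ∈ 𝒩, ∀ m ∈ ⁅(S : Subgroup G), (S : Subgroup G)⁆, h * m * h⁻¹ ∈ ⁅(S : Subgroup G), (S : Subgroup G)⁆ :=
    fun h hh => MX.WTx.mp_comm (S := ⊤) (f := fun m => h * m * h⁻¹) (fun a _ b _ => by group) le_top le_top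
      (fun m hm => (mem_normalizer_iff.1 hh m).1 hm) fun m hm => (mem_normalizer_iff.1 hh m).1 hm
  by_cases ab : IsMulCommutative S
  · exact y1 (fpK S hS (M := ⊥) (commutator_le.2 fun a ha b hb => commutatorElement_eq_one_iff_mul_comm.2
      (congrArg Subtype.val (mul_comm' (⟨a, ha⟩ : S) ⟨b, hb⟩))) (fun h _ m hm => by rw [mem_bot.1 hm]; simp) hy fy)
  by_cases ce : A ≤ centralizer ((S : Subgroup G) : Set G)
  · have : (S : Subgroup G) ≤ ⁅(S : Subgroup G), (S : Subgroup G)⁆ := fun g hg => fpK S hS le_rfl cj hg fun h hh => by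
      obtain ⟨s, hs, a, ha, rfl⟩ := (Loc.mem_sup_of_ge_normalizer A1).1 (A2.ge hh)
      have := commutator_mem_commutator (inv_mem hg) hs
      rw [commutatorElement_def, inv_inv] at this
      convert this using 1
      rw [mul_assoc s, ← ce ha g hg]; group
    obtain ⟨j, hj⟩ := (S : Subgroup G).isNilpotent_iff_lowerCentralSeries.1 S.isPGroup'.isNilpotent
    have k : ∀ j, (S : Subgroup G) ≤ (S : Subgroup G).lowerCentralSeries j := fun j => by
      induction j with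
      | zero => rfl
      | succ j ih => exact this.trans (commutator_mono ih le_rfl)
    exact y1 (hj.le (k j hy))
  have l2 := (h4 ab ce).2.2.2.2
  have l3 : ⁅(S : Subgroup G), A⁆ ≤ S := (le_normalizer_iff_commutator_le_left.1 A1)
  refine y1 (h3.le ⟨fpK S hS l2 (fun h hh m hm => ?_) hy fun h hh => by rw [fy h hh]; exact one_mem _, hy,
    fun a ha => mem_centralizer_singleton_iff.1 (hc (A1 ha))⟩)
  obtain ⟨s, hs, a, ha, rfl⟩ := (Loc.mem_sup_of_ge_normalizer A1).1 (A2.ge hh)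
  have k := mul_mem (inv_mem (commutator_mem_commutator (l3 hm) ha)) hm
  have := mul_mem (l2 (commutator_mem_commutator hs (l3 k))) k
  convert this using 1
  simp only [commutatorElement_def]; group

theorem main (hp2 : p ≠ 2) (hG : commutator G = ⊤) (hrk : PRankLE p 2 G) {y : G} (hy : y ∈ (S : Subgroup G))
    (y1 : y ≠ 1) (yp : y ^ p = 1) (hc : 𝒩 ≤ centralizer {y}) :
    (IsExtraspecial p S ∧ Nat.card S = p ^ 3 ∧ ∀ g ∈ (S : Subgroup G), g ^ p = 1) ∨
      (p = 3 ∧ ∃ k, 2 ≤ k ∧ Nat.card S = 3 ^ (2 * k + 1) ∧ ∃ _ : Group.IsNilpotent S, Group.nilpotencyClass S = 2 * k) := by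
  have hS := le_comm S hp2 hG hrk
  obtain ⟨n, hn⟩ := IsPGroup.iff_card.1 S.isPGroup'
  refine (lvl2 (A := Set.range (S : Subgroup G).normalizerMonoidHom) (y := ⟨y, hy⟩) hp2 hn (Odd.pRankLE_subgroup hrk S)
    (not_meta S hp2 hS hy y1 hc) (fun M h1 h2 g h3 => ?_) (fun e => y1 (congrArg Subtype.val e)) (Subtype.ext yp)
    (mem_center_iff.2 fun a => Subtype.ext (mem_centralizer_singleton_iff.1 (hc (le_normalizer a.2)))) ?_).imp
    (fun h => ⟨h.1, h.2.1, fun g hg => congrArg Subtype.val (h.2.2 ⟨g, hg⟩)⟩)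
    fun ⟨a, k, b, c, d⟩ => ⟨a, k, b, c, S.isPGroup'.isNilpotent, d⟩
  · obtain ⟨u, hu, e⟩ := fpK S hS (M := M.map (S : Subgroup G).subtype)
      ((S : Subgroup G).map_subtype_commutator.ge.trans (map_mono h1))
      (by rintro h hh _ ⟨m, hm, rfl⟩; exact ⟨_, h2 _ ⟨⟨h, hh⟩, rfl⟩ m hm, rfl⟩) g.2
      fun h hh => ⟨_, h3 _ ⟨⟨h, hh⟩, rfl⟩, rfl⟩
    rwa [← show u = g from Subtype.ext e]
  · rintro _ ⟨h, rfl⟩
    exact Subtype.ext (Even.conj_eq_iff_mem_centralizer.2 (hc h.2))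

end CL.IsoRk2
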