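/-
Failure of factorization for the prime 2 forces a section `S₄` when the Sylow subgroups of the acting
group are abelian (helper30).
-/
import Cfsg.Agent.Loc.SFour
import Cfsg.Agent.Loc.Offender1
import Cfsg.Agent.Loc.Thompson2
import Cfsg.Agent.Loc.FF1
import Cfsg.Agent.Grp.NilpSub
import Cfsg.Agent.Loc.FStar2
import Cfsg.Agent.Loc.PConstr
import Cfsg.Agent.Grp.Zipper
import Cfsg.Agent.Grp.ThompsonNPC

set_option autoImplicit false
set_option linter.unusedSectionVars false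

open scoped Pointwise commutatorElement
open Cfsg CL.Grp Equiv

namespace CL.Loc

variable {G : Type*} [Group G] [Finite G]

/-- Two elements acting on a section of order four of `V` as two different transvections. -/
theorem involves_sfour_of_two_transvections {V C : Subgroup G} (hV : IsElementaryAbelian 2 V)
    {a b x y z : G} (ha : a ∈ Subgroup.normalizer (V : Set G))
    (hb : b ∈ Subgroup.normalizer (V : Set G)) (ha2 : a * a ∈ Subgroup.centralizer (V : Set G))
    (hb2 : b * b ∈ Subgroup.centralizer (V : Set G)) (haC : a ∈ Subgroup.centralizer (C : Set G))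
    (hbC : b ∈ Subgroup.centralizer (C : Set G)) (hx : x ∈ V) (hy : y ∈ V) (hz : z ∈ C)
    (hax : a * x * a⁻¹ = x) (hay : a * y * a⁻¹ = y * x) (hby : b * y * b⁻¹ = y)
    (hbx : b * x * b⁻¹ = x * y * z) (hxC : x ∉ C) (hxy : x * y ∉ C) :
    Involves (Perm (Fin 4)) G := by
  obtain ⟨c, hc⟩ : ∃ c : G →* G, ∀ v, c v = a * b * v * (a * b)⁻¹ :=
    ⟨(MulAut.conj (a * b)).toMonoidHom, fun _ => rfl⟩
  have hc' : ∀ v, c v = a * (b * v * b⁻¹) * a⁻¹ := fun v => by rw [hc]; group
  have haz : ∀ w ∈ C, a * w * a⁻¹ = w := fun w hw => by rw [← haC w hw]; group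
  have hcz : ∀ w ∈ C, c w = w := fun w hw => by
    rw [hc', ← hbC w hw, mul_inv_cancel_right, haz w hw]
  have h2 : ∀ v ∈ V, v * v = 1 := fun v hv => by rw [← pow_two, hV.2 v hv]
  have hyx := ea_mul_comm hV hy hx
  have c1 : c y = y * x := by rw [hc', hby, hay]
  have c2 : c x = y * z := by
    rw [hc', hbx, ← conj_mul, ← conj_mul, hax, hay, haz z hz, hyx, ← mul_assoc, h2 x hx, one_mul]
  have c3 : c (y * x) = x * z := by
    rw [map_mul, c1, c2, hyx, mul_assoc, ← mul_assoc y, h2 y hy, one_mul]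
  have key : ∀ n : ℕ, ∃ w ∈ C, (a * b) ^ n * y * ((a * b) ^ n)⁻¹ =
      (if n % 3 = 0 then y else if n % 3 = 1 then y * x else x) * w := by
    intro n
    induction n with
    | zero => exact ⟨1, C.one_mem, by simp⟩
    | succ n ih =>
      obtain ⟨w, hw, e⟩ := ih
      have e' : (a * b) ^ (n + 1) * y * ((a * b) ^ (n + 1))⁻¹ =
          c ((a * b) ^ n * y * ((a * b) ^ n)⁻¹) := by
        rw [hc, pow_succ', mul_inv_rev (a * b)]; simp only [mul_assoc]
      rw [e', e, map_mul, hcz w hw]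
      rcases (by omega : n % 3 = 0 ∨ n % 3 = 1 ∨ n % 3 = 2) with h | h | h
      · exact ⟨w, hw, by simp [h, show (n + 1) % 3 = 1 by omega, c1]⟩
      · exact ⟨z * w, C.mul_mem hz hw, by
          simp only [h, show (n + 1) % 3 = 2 by omega]; simp [c3, mul_assoc]⟩
      · exact ⟨z * w, C.mul_mem hz hw, by simp [h, show (n + 1) % 3 = 0 by omega, c2, mul_assoc]⟩
  refine involves_sfour_of_inverts_mod (ea_isPGroup hV) (mul_mem ha hb) ha (fun n hn => ?_) ?_
  · obtain ⟨w, hw, e⟩ := key n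
    rw [← hn y hy, mul_inv_cancel_right] at e
    rcases (by omega : n % 3 = 0 ∨ n % 3 = 1 ∨ n % 3 = 2) with h | h | h
    · omega
    · simp only [h, one_ne_zero, if_false, if_true, mul_assoc, left_eq_mul] at e
      exact absurd (by rw [eq_inv_of_mul_eq_one_left e]; exact C.inv_mem hw) hxC
    · simp only [h, OfNat.ofNat_ne_zero, OfNat.ofNat_ne_one, if_false] at e
      exact absurd (by rw [e, ← mul_assoc, h2 x hx, one_mul]; exact hw) hxy
  · have : a * (a * b) * a⁻¹ * (a * b) = a * a * (b * b) := by group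
    rw [this]
    exact mul_mem ha2 hb2

/-- A quadratic subgroup `B` that is large compared with `C_V(B) / C` moves `x` by any given vector. -/
theorem exists_commutator_mem_coset {V B C Z : Subgroup G} (hV : IsElementaryAbelian 2 V)
    (hq : ⁅V, B⁆ ≤ V ⊓ Subgroup.centralizer (B : Set G))
    (hC : C ≤ V ⊓ Subgroup.centralizer (B : Set G)) {x : G} (hx : x ∈ V)
    (hZ : ∀ b ∈ B, x⁻¹ * (b * x * b⁻¹) ∈ C → b ∈ Z)
    (hcard : C.relIndex (V ⊓ Subgroup.centralizer (B : Set G)) ≤ Z.relIndex B) {y : G}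
    (hy : y ∈ V ⊓ Subgroup.centralizer (B : Set G)) :
    ∃ b ∈ B, ∃ z ∈ C, b * x * b⁻¹ = x * y * z := by
  set D := V ⊓ Subgroup.centralizer (B : Set G) with hD
  have hm : ∀ b ∈ B, x⁻¹ * (b * x * b⁻¹) ∈ D := fun b hb => by
    have := hq (Subgroup.commutator_mem_commutator (V.inv_mem hx) hb)
    simpa [commutatorElement_def, mul_assoc] using this
  have hn : (C.subgroupOf D).Normal := normal_subgroupOf_of_le_normalizer'
    (ea_le_normalizer_of_le hV inf_le_left (hC.trans inf_le_left))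
  let f : B →* D := MonoidHom.mk' (fun b => ⟨x⁻¹ * (b * x * (b : G)⁻¹), hm b b.2⟩) (fun b b' => by
    apply Subtype.ext
    have h1 := (hm b' b'.2).2 b b.2
    change x⁻¹ * (b * b' * x * ((b : G) * b')⁻¹) =
      x⁻¹ * (b * x * (b : G)⁻¹) * (x⁻¹ * (b' * x * (b' : G)⁻¹))
    calc _ = x⁻¹ * (b * x * (b : G)⁻¹) * (b * (x⁻¹ * (b' * x * (b' : G)⁻¹)) * (b : G)⁻¹) := by group
      _ = _ := by rw [h1]; group)
  let g := (QuotientGroup.mk' (C.subgroupOf D)).comp f
  have h1 : g.ker ≤ Z.subgroupOf B := fun b hb => hZ b b.2 ((QuotientGroup.eq_one_iff (f b)).1 hb)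
  have h2 : Z.relIndex B ≤ Nat.card g.range := by
    rw [← Subgroup.index_ker]
    exact Nat.le_of_dvd (Nat.pos_of_ne_zero Subgroup.index_ne_zero_of_finite)
      (Subgroup.index_dvd_of_le h1)
  have h3 : g.range = ⊤ := Subgroup.eq_top_of_le_card _ (hcard.trans h2)
  obtain ⟨b, hb⟩ : QuotientGroup.mk' (C.subgroupOf D) ⟨y, hy⟩ ∈ g.range := h3 ▸ trivial
  have h4 : (⟨y, hy⟩ : D)⁻¹ * f b ∈ C.subgroupOf D := QuotientGroup.eq.1 hb.symm
  refine ⟨b, b.2, _, h4, ?_⟩
  change _ = x * y * (y⁻¹ * (x⁻¹ * (b * x * (b : G)⁻¹)))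
  group

omit [Finite G] in
/-- The elements moving `v` only by elements of a centralized subgroup. -/
theorem mem_centralizer_of_moves_le {L C : Subgroup G} (hC : L ≤ Subgroup.centralizer (C : Set G))
    {s : Set G} (hL : L ≤ Subgroup.closure s) (hs : s ⊆ L) {v : G}
    (h : ∀ g ∈ s, v⁻¹ * (g * v * g⁻¹) ∈ C) :
    (∀ g ∈ L, v⁻¹ * (g * v * g⁻¹) ∈ C) ∧
      ∀ g ∈ L, g * v = v * g → ∀ l ∈ L, l * g * l⁻¹ * v = v * (l * g * l⁻¹) := by
  have h1 : ∀ g ∈ L, v⁻¹ * (g * v * g⁻¹) ∈ C := by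
    intro g hg
    have hg' := hL hg
    clear hg
    have hsub := (Subgroup.closure_le L).2 hs
    induction hg' using Subgroup.closure_induction with
    | mem g hg => exact h g hg
    | one => simp
    | mul g g' hg _ h1 h2 =>
      have e := hC (hsub hg) _ h2
      have : v⁻¹ * (g * g' * v * (g * g')⁻¹) =
          v⁻¹ * (g * v * g⁻¹) * (g * (v⁻¹ * (g' * v * g'⁻¹)) * g⁻¹) := by group
      rw [this, ← e, mul_inv_cancel_right]
      exact C.mul_mem h1 h2
    | inv g hg h1 =>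
      have e := hC (hsub hg) _ h1
      have : v⁻¹ * (g⁻¹ * v * g⁻¹⁻¹) = (g⁻¹ * (v⁻¹ * (g * v * g⁻¹) * g))⁻¹ := by group
      rw [this, e, inv_mul_cancel_left]
      exact C.inv_mem h1
  refine ⟨h1, fun g hg hgv l hl => ?_⟩
  have e := hC hg _ (h1 _ (L.inv_mem hl))
  have e' : g * (l⁻¹ * v * l) = l⁻¹ * v * l * g := by
    calc _ = g * v * (v⁻¹ * (l⁻¹ * v * l⁻¹⁻¹)) := by group
      _ = v * (v⁻¹ * (l⁻¹ * v * l⁻¹⁻¹) * g) := by rw [hgv, mul_assoc v, e]
      _ = _ := by group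
  calc _ = l * (g * (l⁻¹ * v * l)) * l⁻¹ := by group
    _ = _ := by rw [e']; group

variable {p : ℕ} [Fact p.Prime]

/-- In a minimal configuration with abelian Sylow subgroups modulo `Q`, one element of `B` outside
`O_p(L)` generates `L` together with `A`. -/
theorem sup_zpowers_eq_of_minimal {L Q A B : Subgroup G} (hQ : IsPGroup p Q)
    (hQL : Q ≤ L) (hn : L ≤ Subgroup.normalizer (Q : Set G))
    (hab : ∀ P ≤ L, IsPGroup p P → ⁅P, P⁆ ≤ Q) (hL : A ⊔ B = L) (hB : IsPGroup p B)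
    (hmin : ∀ H, A ≤ H → H < L → A ≤ pCoreOf p H) {b : G} (hb : b ∈ B)
    (hbR : b ∉ pCoreOf p L) : A ⊔ Subgroup.zpowers b = L := by
  have hBL : B ≤ L := hL ▸ le_sup_right
  have hb' : Subgroup.zpowers b ≤ B := Subgroup.zpowers_le.2 hb
  have hle : A ⊔ Subgroup.zpowers b ≤ L := hL ▸ sup_le_sup_left hb' A
  by_contra hne
  have h1 := hmin _ le_sup_left (lt_of_le_of_ne hle hne)
  have key : ∀ P ≤ L, IsPGroup p P → b ∈ P →
      P ≤ Subgroup.normalizer ((Subgroup.zpowers b ⊔ Q : Subgroup G) : Set G) := by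
    intro P hP hPp hbP
    have h2 := hab (P ⊔ Q) (sup_le hP hQL) (hPp.to_sup_of_normal_right' hQ (hP.trans hn))
    exact Subgroup.le_normalizer_iff_commutator_le_left.2 ((Subgroup.commutator_mono
      (sup_le_sup_right (Subgroup.zpowers_le.2 hbP) Q) le_sup_left).trans (h2.trans le_sup_right))
  have h3 := key (Subgroup.zpowers b ⊔ pCoreOf p (A ⊔ Subgroup.zpowers b : Subgroup G))
    (sup_le (hb'.trans hBL) ((pCoreOf_le _ _).trans hle))
    ((hB.to_le hb').to_sup_of_normal_right' (pCoreOf_isPGroup _ _)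
      (le_sup_right.trans (le_normalizer_pCoreOf _ _)))
    (Subgroup.mem_sup_left (Subgroup.mem_zpowers b))
  refine hbR (le_pCoreOf (sup_le (hb'.trans hBL) hQL) ?_
    ((hB.to_le hb').to_sup_of_normal_right' hQ ((hb'.trans hBL).trans hn))
    (Subgroup.mem_sup_left (Subgroup.mem_zpowers b)))
  exact hL ▸ sup_le ((h1.trans le_sup_right).trans h3) (key B hBL hB hb)

omit [Finite G] in
theorem mem_centralizer_conj_of_moves {L C A : Subgroup G}
    (hC : L ≤ Subgroup.centralizer (C : Set G)) {b v g : G} (hL : A ⊔ Subgroup.zpowers b = L)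
    (hv : v ∈ Subgroup.centralizer (A : Set G)) (hb : v⁻¹ * (b * v * b⁻¹) ∈ C) (hg : g ∈ L) :
    v ∈ Subgroup.centralizer ((MulAut.conj g • A : Subgroup G) : Set G) := by
  have hA : A ≤ L := hL ▸ le_sup_left
  have h := (mem_centralizer_of_moves_le (s := (A : Set G) ∪ {b}) (v := v) hC
    (by rw [Subgroup.closure_union, Subgroup.closure_eq, ← Subgroup.zpowers_eq_closure, hL])
    (Set.union_subset hA (Set.singleton_subset_iff.2
      (hL ▸ Subgroup.mem_sup_right (Subgroup.mem_zpowers b) : b ∈ L))) (by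
      rintro a (ha | rfl)
      · rw [hv a ha]; simp
      · exact hb)).2
  rintro _ ⟨a, ha, rfl⟩
  exact h a (hA ha) (hv a ha) g hg

/-- A quadratic best offender outside `O₂`, in a group with abelian Sylow `2`-subgroups modulo `C(V)`. -/
theorem involves_sfour_of_quadratic_offender {N V A : Subgroup G} (hV : IsElementaryAbelian 2 V)
    (hNV : N ≤ Subgroup.normalizer (V : Set G))
    (hQ : IsPGroup 2 (N ⊓ Subgroup.centralizer (V : Set G) : Subgroup G))
    (hab : ∀ P ≤ N, IsPGroup 2 P → ⁅P, P⁆ ≤ Subgroup.centralizer (V : Set G))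
    (hAN : A ≤ N) (hA : IsPGroup 2 A) (hA2 : ∀ a ∈ A, a * a ∈ Subgroup.centralizer (V : Set G))
    (hq : ⁅V, A⁆ ≤ Subgroup.centralizer (A : Set G)) (hbest : ∀ B ≤ A, offM V B ≤ offM V A)
    (hAO : ¬ A ≤ pCoreOf 2 N) : Involves (Perm (Fin 4)) G := by
  have : Fact (Nat.Prime 2) := ⟨Nat.prime_two⟩
  set Q := N ⊓ Subgroup.centralizer (V : Set G) with hQd
  have hNQ : N ≤ Subgroup.normalizer (Q : Set G) :=
    le_normalizer_inf' Subgroup.le_normalizer (le_normalizer_centralizer' hNV)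
  obtain ⟨L, -, hL⟩ := exists_minimal_le_of_wellFoundedLT
    (fun L : Subgroup G => A ⊔ Q ≤ L ∧ L ≤ N ∧ ¬ A ≤ pCoreOf 2 L) N ⟨sup_le hAN inf_le_left, le_rfl, hAO⟩
  obtain ⟨hA'L, hLN, hAR⟩ := hL.prop
  set R := pCoreOf 2 L with hR
  have hA' : IsPGroup 2 (A ⊔ Q : Subgroup G) := hA.to_sup_of_normal_right' hQ (hAN.trans hNQ)
  have hAL : A ≤ L := le_sup_left.trans hA'L
  have hQL : Q ≤ L := le_sup_right.trans hA'L
  have hmin : ∀ H, A ⊔ Q ≤ H → H < L → A ⊔ Q ≤ pCoreOf 2 H := fun H h1 h2 => by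
    refine sup_le ?_ (le_pCoreOf (le_sup_right.trans h1) ((h2.le.trans hLN).trans hNQ) hQ)
    by_contra h3
    exact h2.not_ge (hL.2 ⟨h1, h2.le.trans hLN, h3⟩ h2.le)
  have hab' : ∀ P ≤ L, IsPGroup 2 P → ⁅P, P⁆ ≤ Q := fun P h1 h2 =>
    le_inf ((Subgroup.commutator_le_self P).trans (h1.trans hLN)) (hab P (h1.trans hLN) h2)
  obtain ⟨x, hxL, hx⟩ : ∃ x ∈ L, A ⊔ Q ⊔ MulAut.conj x • (A ⊔ Q) = L := by
    by_contra! hcon
    refine hAR (le_sup_left.trans (le_pCoreOf_of_subnIn
      (subnIn_of_forall_subnIn_sup_conj hA'L fun g hg => ?_) hA'))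
    have h1 := hmin _ le_sup_left (lt_of_le_of_ne
      (sup_le hA'L (conj_smul_le_of_le_of_mem hA'L hg)) (hcon g hg))
    exact (subnIn_of_isPGroup (pCoreOf_isPGroup _ _) h1).trans
      (.of_le_normalizer (pCoreOf_le _ _) (le_normalizer_pCoreOf _ _))
  set A' := A ⊔ Q with hA'd
  set B' := MulAut.conj x • A' with hB'd
  set B := MulAut.conj x • A with hBd
  have hBB' : B ≤ B' := conj_smul_mono' x le_sup_left
  have hB' : IsPGroup 2 B' := IsPGroup.conj_smul hA' x
  have hB'L : B' ≤ L := hx ▸ le_sup_right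
  have hminB : ∀ H, B' ≤ H → H < L → B' ≤ pCoreOf 2 H := fun H h1 h2 => by
    have h3 := hmin (MulAut.conj x⁻¹ • H)
      (by simpa only [hB'd, conj_inv_smul_conj_smul] using conj_smul_mono' x⁻¹ h1)
      (lt_of_le_of_ne (conj_smul_le_of_le_of_mem h2.le (L.inv_mem hxL)) fun e => h2.ne (by
        rw [← conj_smul_conj_inv_smul x H, e, conj_smul_eq_of_mem hxL]))
    have h4 := conj_smul_mono' x h3
    rwa [conj_smul_pCoreOf, conj_smul_conj_inv_smul] at h4
  have hxV : MulAut.conj x • V = V := (conj_smul_eq_self_iff x V).2 (hNV (hLN hxL))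
  set D := V ⊓ Subgroup.centralizer (A : Set G) with hD
  set D' := V ⊓ Subgroup.centralizer (B : Set G) with hD'
  have hDD' : MulAut.conj x • D = D' := by
    rw [hD, conj_smul_inf, hxV, ← centralizer_conj_smul]
  have hDA' : D ≤ Subgroup.centralizer (A' : Set G) := by
    rw [hA'd, centralizer_sup_eq]
    exact le_inf inf_le_right (inf_le_left.trans (Subgroup.le_centralizer_iff.1 inf_le_right))
  have hDB' : D' ≤ Subgroup.centralizer (B' : Set G) := by
    rw [← hDD', hB'd, centralizer_conj_smul]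
    exact conj_smul_mono' x hDA'
  have hLC : L ≤ Subgroup.centralizer ((D ⊓ D' : Subgroup G) : Set G) :=
    hx ▸ sup_le (Subgroup.le_centralizer_iff.1 (inf_le_left.trans hDA'))
      (Subgroup.le_centralizer_iff.1 (inf_le_right.trans hDB'))
  have hqA : ⁅V, A⁆ ≤ D := le_inf (Subgroup.le_normalizer_iff_commutator_le_left.1 (hAN.trans hNV)) hq
  have hqB : ⁅V, B⁆ ≤ D' := by
    rw [← hDD', ← hxV, hBd, ← conj_smul_commutator]
    exact conj_smul_mono' x hqA
  have hcm : ∀ {K E : Subgroup G}, ⁅V, K⁆ ≤ E → ∀ v ∈ V, ∀ k ∈ K, v⁻¹ * (k * v * k⁻¹) ∈ E :=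
    fun h v hv k hk => by
      simpa [commutatorElement_def, mul_assoc] using
        h (Subgroup.commutator_mem_commutator (V.inv_mem hv) hk)
  -- a vector fixed by `B` and not by `A`
  obtain ⟨y, hyD', hyD⟩ : ∃ y ∈ D', y ∉ D := by
    by_contra! hcon
    have e : D' = D := Subgroup.eq_of_le_of_card_ge hcon (by rw [← hDD', card_conj_smul])
    have hqA' : ⁅V, A'⁆ ≤ D := by
      rw [hA'd, commutator_sup_right_eq (hAN.trans hNV) (inf_le_left.trans hNV)]
      refine sup_le hqA ?_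
      rw [Subgroup.commutator_comm, Subgroup.commutator_eq_bot_iff_le_centralizer.2 inf_le_right]
      exact bot_le
    have hqB' : ⁅V, B'⁆ ≤ D' := by
      rw [← hDD', ← hxV, hB'd, ← conj_smul_commutator]
      exact conj_smul_mono' x hqA'
    have hqL : ⁅V, L⁆ ≤ D ⊓ D' := by
      rw [← hx, commutator_sup_right_eq ((hA'L.trans hLN).trans hNV) ((hB'L.trans hLN).trans hNV), e,
        inf_idem]
      exact sup_le hqA' (hqB'.trans hcon)
    refine hAR (hAL.trans (pCoreOf_eq_self_iff.2 fun g => ?_).ge)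
    have h2 : (g : G) * g ∈ Q := ⟨hLN (L.mul_mem g.2 g.2), fun v hv => by
      have h3 := hcm hqL v hv g g.2
      have h4 := hLC g.2 _ h3
      have h5 := hV.2 _ h3.1.1
      rw [eq_comm, ← mul_inv_eq_iff_eq_mul]
      calc _ = v * (v⁻¹ * (g * v * (g : G)⁻¹)) * (g * (v⁻¹ * (g * v * (g : G)⁻¹)) * (g : G)⁻¹) := by
            group
        _ = v := by rw [← h4, mul_inv_cancel_right, mul_assoc v, ← pow_two, h5, mul_one]⟩
    obtain ⟨k, hk⟩ := hQ ⟨_, h2⟩
    refine ⟨k + 1, Subtype.ext ?_⟩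
    have h6 : ((g : G) * g) ^ 2 ^ k = 1 := congrArg Subtype.val hk
    change (g : G) ^ 2 ^ (k + 1) = 1
    rw [pow_succ', pow_mul, pow_two, h6]
  obtain ⟨a, haA, haR⟩ := SetLike.not_le_iff_exists.1 hAR
  have hwD : y⁻¹ * (a * y * a⁻¹) ∈ D := hcm hqA y hyD'.1 a haA
  set w := y⁻¹ * (a * y * a⁻¹) with hw
  have hwD' : w ∉ D' := fun h => hyD ⟨hyD'.1, by
    have h1 := mem_centralizer_conj_of_moves hLC (sup_zpowers_eq_of_minimal hQ hQL (hLN.trans hNQ) hab'
      (by rw [sup_comm, hx]) hA' hminB (Subgroup.mem_sup_left haA) haR) (hDB' hyD') ⟨hwD, h⟩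
      (L.inv_mem hxL)
    rw [hB'd, conj_inv_smul_conj_smul] at h1
    exact centralizer_anti le_sup_left h1⟩
  -- counting
  have hRL : ⁅R, L⁆ ≤ Q := by
    have h1 : ∀ P ≤ L, IsPGroup 2 P → ⁅R, P⁆ ≤ Q := fun P h1 h2 =>
      (Subgroup.commutator_mono le_sup_right le_sup_left).trans (hab' (P ⊔ R)
        (sup_le h1 (pCoreOf_le _ _)) (h2.to_sup_of_normal_right' (pCoreOf_isPGroup _ _)
          (h1.trans (le_normalizer_pCoreOf _ _))))
    conv_lhs => rw [← hx]
    rw [commutator_sup_right_eq (hA'L.trans (le_normalizer_pCoreOf _ _))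
      (hB'L.trans (le_normalizer_pCoreOf _ _))]
    exact sup_le (h1 _ hA'L hA') (h1 _ hB'L hB')
  have hZ : D ⊔ D' ≤ V ⊓ Subgroup.centralizer ((R ⊓ A : Subgroup G) : Set G) := by
    refine sup_le (inf_le_inf_left _ (centralizer_anti inf_le_right)) (le_inf inf_le_left ?_)
    rintro v hv z ⟨hzR, hzA⟩
    have h1 := (hRL (Subgroup.commutator_mem_commutator hzR hxL)).2 v hv.1
    have h2 := hv.2 _ (conj_mem_conj_smul x hzA)
    calc z * v = ⁅z, x⁆ * (x * z * x⁻¹ * v) := by group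
      _ = v * z := by rw [h2, ← mul_assoc, ← h1]; group
  have hcard : (D ⊓ D').relIndex D' ≤ R.relIndex B := by
    have e1 : R.relIndex B = R.relIndex A := by
      conv_lhs => rw [← (conj_smul_eq_self_iff x R).2 (le_normalizer_pCoreOf _ _ hxL)]
      exact relIndex_conj_smul x R A
    have h1 := hbest (R ⊓ A) inf_le_right
    rw [offM_def, offM_def, ← card_inf_mul_relIndex R A, mul_assoc] at h1
    have h2 := Nat.le_of_mul_le_mul_left h1 Nat.card_pos
    have h3 := card_mul_card_le_inf_sup D D'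
    rw [← card_mul_relIndex (inf_le_right : D ⊓ D' ≤ D'), mul_left_comm] at h3
    have h4 := (Nat.le_of_mul_le_mul_left h3 Nat.card_pos).trans
      ((Subgroup.card_le_of_le hZ).trans h2)
    rw [e1]
    exact Nat.le_of_mul_le_mul_left (h4.trans (mul_comm _ _).le) Nat.card_pos
  obtain ⟨b, hbB, z, hz, hb⟩ := exists_commutator_mem_coset (Z := R) hV hqB inf_le_right hwD.1
    (fun b hb h => by
      by_contra hbR
      have h1 := mem_centralizer_conj_of_moves hLC (sup_zpowers_eq_of_minimal hQ hQL (hLN.trans hNQ)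
        hab' hx hB' hmin (hBB' hb) hbR) (hDA' hwD) h hxL
      exact hwD' ⟨hwD.1, centralizer_anti hBB' h1⟩) hcard hyD'
  have hbL : b ∈ L := hB'L (hBB' hbB)
  refine involves_sfour_of_two_transvections (C := D ⊓ D') hV
    (hNV (hAN haA)) (hNV (hLN hbL)) (hA2 a haA) ?_ (hLC (hAL haA)) (hLC hbL) hwD.1 hyD'.1 hz
    (by rw [hwD.2 a haA, mul_inv_cancel_right]) (by rw [hw, mul_inv_cancel_left])
    (by rw [hyD'.2 b hbB, mul_inv_cancel_right]) hb (fun h => hwD' h.2)
    (fun h => hwD' (by simpa using D'.mul_mem h.2 (D'.inv_mem hyD')))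
  obtain ⟨a', ha', rfl⟩ := hbB
  rw [← hxV, centralizer_conj_smul]
  have := conj_mem_conj_smul x (hA2 a' ha')
  rwa [← conj_mul] at this

/-- A best offender acting nontrivially, when `O₂(N) = C_N(V)` and `N / C_N(V)` has abelian Sylow
`2`-subgroups, forces a section `S₄`. -/
theorem involves_sfour_of_bestOffender {N V A : Subgroup G} (hV : IsElementaryAbelian 2 V)
    (hNV : N ≤ Subgroup.normalizer (V : Set G))
    (hQ : IsPGroup 2 (N ⊓ Subgroup.centralizer (V : Set G) : Subgroup G))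
    (hO : pCoreOf 2 N ≤ Subgroup.centralizer (V : Set G))
    (hab : ∀ P ≤ N, IsPGroup 2 P → ⁅P, P⁆ ≤ Subgroup.centralizer (V : Set G))
    (hAN : A ≤ N) (hA : IsPGroup 2 A) (hbest : IsBestOffenderOn 2 V A) (hne : ⁅V, A⁆ ≠ ⊥) :
    Involves (Perm (Fin 4)) G := by
  have : Fact (Nat.Prime 2) := ⟨Nat.prime_two⟩
  obtain ⟨-, h2, -, h4⟩ := timmesfeld_replacement hV (hAN.trans hNV) hbest le_rfl
  refine involves_sfour_of_quadratic_offender hV hNV hQ hab (inf_le_left.trans hAN)
    hA.to_inf_left (fun a ha => pow_two a ▸ h2.2.2 a ha)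
    ((Subgroup.commutator_mono le_rfl inf_le_left).trans
      (Subgroup.le_centralizer_iff.1 inf_le_right)) h2.1 fun h => h4 hne ?_
  rw [Subgroup.commutator_comm, Subgroup.commutator_eq_bot_iff_le_centralizer]
  exact h.trans hO

/-- With `C(O₂) ≤ O₂`, no section `S₄` and a Sylow `2`-subgroup of class at most two, `J(S) ≤ O₂`. -/
theorem thompson_le_pCore_of_class_two (hc : Subgroup.centralizer (pCore 2 G : Set G) ≤ pCore 2 G)
    (h4 : ¬ Involves (Perm (Fin 4)) G) {S : Subgroup G} (hS : IsSylowIn 2 S ⊤)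
    (hcl : ⁅⁅S, S⁆, S⁆ = ⊥) : thompsonSubgroupOf 2 S ≤ pCore 2 G := by
  have : Fact (Nat.Prime 2) := ⟨Nat.prime_two⟩
  set Q := pCore 2 G with hQ
  set Z := Q ⊓ Subgroup.centralizer (Q : Set G) with hZ
  set V := omegaOne 2 Z with hV
  set N := Subgroup.normalClosure (S : Set G) with hN
  have hQS : Q ≤ S := IsSylowIn.pCore_le hS
  have hSS : ⁅S, S⁆ ≤ Subgroup.centralizer (S : Set G) :=
    Subgroup.commutator_eq_bot_iff_le_centralizer.1 hcl
  have hSZ : ⁅S, S⁆ ≤ Z :=
    le_inf ((hSS.trans (centralizer_anti hQS)).trans hc) (hSS.trans (centralizer_anti hQS))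
  have hVn : V.Normal := omegaOne_normal Z
  have hVe : IsElementaryAbelian 2 V := ea_omegaOne_center Q
  have hVQ : V ≤ Q := omegaOne_center_le Q
  have hSN : S ≤ N := Subgroup.le_normalClosure
  have hQN : ⁅Q, N⁆ ≤ Z := by
    have hn := (inferInstance : Q.Normal).map _ (QuotientGroup.mk'_surjective Z)
    have key : ∀ K : Subgroup G, ⁅Q, K⁆ ≤ Z ↔ K ≤ (Subgroup.centralizer
        ((Q.map (QuotientGroup.mk' Z) : Subgroup _) : Set (G ⧸ Z))).comap (QuotientGroup.mk' Z) := by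
      intro K
      rw [← Subgroup.map_le_iff_le_comap, ← Subgroup.commutator_eq_bot_iff_le_centralizer,
        ← Subgroup.map_commutator, Subgroup.map_eq_bot_iff, QuotientGroup.ker_mk',
        Subgroup.commutator_comm]
    exact (key N).2 (Subgroup.normalClosure_le_normal
      ((key S).1 ((Subgroup.commutator_mono hQS le_rfl).trans hSZ)))
  have hC : IsPGroup 2 (N ⊓ Subgroup.centralizer (V : Set G) : Subgroup G) := by
    rintro ⟨g, hg⟩
    obtain ⟨k, hk⟩ := CL.Grp.exists_pow_orderOf_coprime Nat.prime_two g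
    refine ⟨k, Subtype.ext ?_⟩
    change g ^ 2 ^ k = 1
    have h1 := pow_mem hg (2 ^ k)
    generalize g ^ 2 ^ k = y at hk h1
    have h2 : y ∈ Subgroup.centralizer (Z : Set G) :=
      mem_centralizer_of_omegaOne_of_abelian (pCore_isPGroup 2 G).to_inf_left
        (inf_le_right.trans (centralizer_anti inf_le_left))
        (Subgroup.le_normalizer_of_normal (Subgroup.mem_top y)) hk h1.2
    have h3 := le_centralizer_of_commutator_le_of_le_centralizer (A := Subgroup.zpowers y) (K := Q)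
      Subgroup.le_normalizer_of_normal
      (coprime_card_of_isPGroup (pCore_isPGroup 2 G) (by rwa [Nat.card_zpowers])).symm
      ((Subgroup.commutator_mono le_rfl (Subgroup.zpowers_le.2 h1.1)).trans hQN)
      (Subgroup.zpowers_le.2 h2)
    exact eq_one_of_coprime_of_mem (pCore_isPGroup 2 G) (hc (h3 (Subgroup.mem_zpowers y))) hk
  have hQV : Q ≤ Subgroup.centralizer (V : Set G) :=
    Subgroup.le_centralizer_iff.1 (omegaOne_center_le_centralizer Q)
  refine thompsonSubgroupOf_le_iff.2 fun A hA => ?_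
  by_contra hAQ
  refine h4 (involves_sfour_of_bestOffender hVe (N := N) Subgroup.le_normalizer_of_normal hC
    ((pCoreOf_le_pCore_of_normal N).trans hQV) (fun P _ hP => ?_) (hA.1.trans hSN)
    (ea_isPGroup hA.2.1) (bestOffender_of_mem_meaIn (hVQ.trans hQS) hVe hA) fun h => hAQ ?_)
  · obtain ⟨g, -, hg⟩ := hS.exists_conj_le hP le_top
    have h1 := conj_smul_mono' g⁻¹ ((Subgroup.commutator_mono hg hg).trans (hSZ.trans inf_le_left))
    rw [← conj_smul_commutator, conj_inv_smul_conj_smul, conj_smul_normal] at h1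
    exact h1.trans hQV
  · rw [Subgroup.commutator_comm, Subgroup.commutator_eq_bot_iff_le_centralizer] at h
    exact (le_inf (hA.1.trans hSN) h).trans (le_pCore hC)

theorem normalizer_thompson_sup_pPrimeCore_of_class_two (hcon : IsPConstrained 2 G)
    (h4 : ¬ Involves (Perm (Fin 4)) G) (S : Sylow 2 G)
    (hcl : ⁅⁅(S : Subgroup G), (S : Subgroup G)⁆, (S : Subgroup G)⁆ = ⊥) :
    Subgroup.normalizer ((thompsonSubgroupOf 2 (S : Subgroup G)) : Set G) ⊔ pPrimeCore 2 G = ⊤ := by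
  have : Fact (Nat.Prime 2) := ⟨Nat.prime_two⟩
  set π := QuotientGroup.mk' (pPrimeCore 2 G) with hπ
  have hs : Function.Surjective π := QuotientGroup.mk'_surjective _
  have hS := IsSylowIn.map_hom (isSylowIn_top S) π
  rw [← MonoidHom.range_eq_map, MonoidHom.range_eq_top.2 hs] at hS
  have h1 := thompson_le_pCore_of_class_two (isPConstrained_iff.1 hcon)
    (fun h => h4 (involves_of_involves_quotient h)) hS
    (by rw [← Subgroup.map_commutator, ← Subgroup.map_commutator, hcl, Subgroup.map_bot])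
  have h2 := thompsonSubgroupOf_eq_of_le h1 (IsSylowIn.pCore_le hS)
  have h3 := map_normalizer_quotient_of_coprime (pPrimeCore_coprime 2 G)
    (S.2.to_le (thompsonSubgroupOf_le (p := 2) (S : Subgroup G)))
  rw [map_thompsonSubgroupOf (by
    rw [QuotientGroup.ker_mk']
    exact inf_eq_bot_of_isPGroup_of_coprime S.2 (pPrimeCore_coprime 2 G)), ← h2] at h3
  have := thompsonSubgroupOf_normal (p := 2) (pCore 2 (G ⧸ pPrimeCore 2 G))
  rw [Subgroup.normalizer_eq_top (thompsonSubgroupOf 2 (pCore 2 (G ⧸ pPrimeCore 2 G)))] at h3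
  have h5 := congrArg (Subgroup.comap π) h3
  rwa [Subgroup.comap_map_eq, QuotientGroup.ker_mk', Subgroup.comap_top] at h5

end CL.Loc
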