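/-
Groups with an extraspecial Sylow subgroup of order `p³` and exponent `p`: the number of planes whose
automiser contains `SL₂(p)` bounds `p`.
-/
import Cfsg.Agent.Grp.ExtraAut
import Cfsg.Agent.Grp.SylowIn
import Cfsg.Agent.Cls.SL2PSL
import Cfsg.Agent.Odd.RelBasic

set_option autoImplicit false

open Cfsg CL.Grp CL.SL2 CL.Odd Subgroup Matrix
open scoped Pointwise MatrixGroups

namespace CL.XP3

section pgl
variable {F : Type*} [Field F]

theorem sq_fix {s t : PGL(2, F)} (h : s * t = t * s) (ht : t ≠ 1) {x : P1 F} (hx : t • x = x) :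
    (s * s) • x = x := by
  have h1 : t • s • x = s • x := by rw [← mul_smul, ← h, mul_smul, hx]
  have h2 : t • s • s • x = s • s • x := by rw [← mul_smul, ← h, mul_smul, h1]
  by_contra hn
  rw [mul_smul] at hn
  have h3 : x ≠ s • x := fun e => hn (by rw [← e, ← e])
  exact ht (pgl_eq_one_of_fix_three h3 (Ne.symm hn) (fun e => h3 (smul_left_cancel s e)) hx h1 h2)

theorem comm_of {W : Type*} [Group W] (h : IsCyclic W ∨ ∃ n, Nonempty (W ≃* DihedralGroup n)) {s t : W}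
    (hs : s * s ≠ 1) (ht : t * t ≠ 1) : s * t = t * s := by
  rcases h with h | ⟨n, ⟨e⟩⟩
  · exact h.commGroup.mul_comm s t
  · refine e.injective ?_
    rw [Ne, ← e.map_eq_one_iff, map_mul] at hs ht
    rw [map_mul, map_mul]
    generalize e s = a, e t = b at hs ht
    rcases a with a | a <;> rcases b with b | b <;> simp_all [add_comm]

theorem card_fix_le {s : PGL(2, F)} (hs : s ≠ 1) {X : Finset (P1 F)} (h : ∀ x ∈ X, s • x = x) : X.card ≤ 2 := by
  by_contra hn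
  obtain ⟨x, hx, y, hy, z, hz, h1, h2, h3⟩ := Finset.two_lt_card.1 (not_le.1 hn)
  exact hs (pgl_eq_one_of_fix_three h1 h2 h3 (h x hx) (h y hy) (h z hz))

theorem card_le [PerfectField F] (p : ℕ) [Fact p.Prime] [CharP F p] (W : Subgroup PGL(2, F)) [Finite W]
    (hW : ¬ p ∣ Nat.card W) {n : ℕ} (h4 : 4 ≤ n) (h5 : n ≠ 5) {X : Finset (P1 F)}
    (h : ∀ x ∈ X, ∃ t : W, n ∣ orderOf t ∧ (t : PGL(2, F)) • x = x) : X.card ≤ 2 ∨ (n = 4 ∧ X.card ≤ 6) := by
  classical
  have le : ∀ {t : W} {k : ℕ}, n ∣ orderOf t → t ^ k = 1 → n ∣ k := fun e1 e2 =>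
    e1.trans (orderOf_dvd_of_pow_eq_one e2)
  have sq : ∀ {t : W}, n ∣ orderOf t → t * t ≠ 1 := fun e1 e2 => by
    have := Nat.le_of_dvd two_pos (le e1 (by rw [pow_two, e2]))
    omega
  rcases X.eq_empty_or_nonempty with rfl | ⟨x₀, h0⟩
  · simp
  obtain ⟨s, hs, -⟩ := h x₀ h0
  have h1 : (IsCyclic W ∨ ∃ n, Nonempty (W ≃* DihedralGroup n)) → X.card ≤ 2 := fun hc =>
    card_fix_le (s := s * s) (fun e => sq hs (Subtype.ext e)) fun x hx => by
      obtain ⟨t, ht, e⟩ := h x hx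
      exact sq_fix (congrArg Subtype.val (comm_of hc (sq hs) (sq ht)))
        (fun e => sq ht (by rw [show t = 1 from Subtype.ext e, mul_one])) e
  have h2 : ∀ {K : Type} [Group K], (∀ x : K, x ^ 2 = 1 ∨ x ^ 3 = 1 ∨ x ^ 5 = 1) → (W ≃* K) → False := by
    intro K _ hK e
    have := hK (e s)
    simp only [← map_pow, e.map_eq_one_iff] at this
    rcases this with e | e | e <;> have e1 := le hs e <;> have := Nat.le_of_dvd (by norm_num) e1
    · omega
    · omega
    · obtain rfl : n = 4 := by omega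
      omega
  rcases dickson_coprime p W.subtype W.subtype_injective hW with hc | hc | ⟨⟨e⟩⟩ | ⟨⟨e⟩⟩ | ⟨⟨e⟩⟩
  · exact Or.inl (h1 (Or.inl hc))
  · exact Or.inl (h1 (Or.inr hc))
  · exact (h2 (by decide +kernel) e).elim
  · have h3 : ∀ t : W, n ∣ orderOf t → n = 4 ∧ e t ^ 4 = 1 := fun t ht => by
      rcases (by decide +kernel : ∀ x : Equiv.Perm (Fin 4), x ^ 3 = 1 ∨ x ^ 4 = 1) (e t) with e1 | e1 <;>
        have := Nat.le_of_dvd (by norm_num) (le ht (e.map_eq_one_iff.1 ((map_pow e t _).trans e1)))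
      · omega
      · exact ⟨by omega, e1⟩
    refine Or.inr ⟨(h3 s hs).1, ?_⟩
    choose! t ht ht' using h
    let T : Finset (Equiv.Perm (Fin 4)) := {y | y ≠ 1 ∧ y * y = 1 ∧ Equiv.Perm.sign y = 1}
    refine (Finset.card_le_mul_card_image_of_maps_to (f := fun x => e (t x * t x)) (t := T) (fun x hx => ?_) 2
      fun y hy => ?_).trans_eq (by decide +kernel)
    · refine Finset.mem_filter.2 ⟨Finset.mem_univ _, e.map_ne_one_iff.2 (sq (ht x hx)), ?_, by simp⟩
      rw [← (h3 _ (ht x hx)).2, map_mul]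
      simp only [pow_succ, pow_zero, one_mul, mul_assoc]
    · refine card_fix_le (s := e.symm y) (fun e1 => (Finset.mem_filter.1 hy).2.1
        (e.symm.map_eq_one_iff.1 (Subtype.ext e1))) fun x hx => ?_
      obtain ⟨e1, e2⟩ := Finset.mem_filter.1 hx
      rw [← e2, e.symm_apply_apply, coe_mul, mul_smul, ht' x e1, ht' x e1]
  · exact (h2 (by decide +kernel) e).elim

end pgl

section torus
variable {G : Type*} [Group G] {a z : G}

theorem act (hc : Commute z a) (κ : MulAut G) {α β γ δ : ℕ} (h1 : κ z = z ^ α * a ^ β) (h2 : κ a = z ^ γ * a ^ δ)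
    (i j : ℕ) : κ (z ^ i * a ^ j) = z ^ (α * i + γ * j) * a ^ (β * i + δ * j) := by
  rw [map_mul, map_pow, map_pow, h1, h2, (hc.pow_pow _ _).mul_pow, (hc.pow_pow _ _).mul_pow]
  simp only [← pow_mul, pow_add]
  exact (hc.symm.pow_pow _ _).mul_mul_mul_comm _ _

theorem pow_transv {κ : MulAut G} (h1 : κ z = z * a) (h2 : κ a = a) (n : ℕ) :
    (κ ^ n) z = z ^ 1 * a ^ n ∧ (κ ^ n) a = z ^ 0 * a ^ 1 := by
  induction n with
  | zero => simp
  | succ n ih => simp [pow_succ', ih, h1, h2, mul_assoc]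

/-- the elements centralising `Z` and `a` modulo `Z`. -/
def D (a : G) (Z : Subgroup G) : Subgroup G where
  carrier := {x | x ∈ C[Z] ∧ x * a * x⁻¹ * a⁻¹ ∈ Z}
  one_mem' := ⟨one_mem _, by simp⟩
  mul_mem' := fun {x y} hx hy => ⟨mul_mem hx.1 hy.1, by
    have := mul_mem (conj_mem_of_norm (cent_le_norm Z hx.1) hy.2) hx.2
    convert this using 1
    group⟩
  inv_mem' := fun {x} hx => ⟨inv_mem hx.1, by
    have := inv_mem (conj_mem_of_norm' (cent_le_norm Z hx.1) hx.2)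
    convert this using 1
    group⟩

theorem D_pow {Z : Subgroup G} (ha : a ∈ N[Z]) (n : ℕ) : D a Z ≤ D (a ^ n) Z := fun x hx => ⟨hx.1, by
  induction n with
  | zero => simp
  | succ n ih =>
    have := mul_mem hx.2 (conj_mem_of_norm ha ih)
    convert this using 1
    rw [pow_succ']
    group⟩

theorem D_mul {Z : Subgroup G} {y : G} (hy : y ∈ Z) : D (a * y) Z ≤ D a Z := fun x hx => ⟨hx.1, by
  have := hx.2
  rwa [← mul_assoc, mul_assoc _ y, mem_cent.1 (inv_mem hx.1) y hy, show x * a * (x⁻¹ * y) * (a * y)⁻¹ =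
    x * a * x⁻¹ * a⁻¹ by group] at this⟩

theorem D_conj {Z : Subgroup G} {g : G} (hg : g ∈ N[Z]) : cj g • D a Z ≤ D (g * a * g⁻¹) Z := fun x hx => by
  obtain ⟨y, hy, rfl⟩ := mem_cj_iff_exists.1 hx
  refine ⟨conj_mem_of_norm (norm_le_norm_cent Z hg) hy.1, ?_⟩
  convert conj_mem_of_norm hg hy.2 using 1
  group

/-- the torus of `SL₂(p)` lifts to the normaliser of the Sylow subgroup. -/
theorem torus [Finite G] {p : ℕ} [hp : Fact p.Prime] (P : Sylow p G) (hc : Commute z a) (hz : z ^ p = 1)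
    (ha : a ^ p = 1) (hP : (P : Subgroup G) ≤ D a (zpowers z)) {x y : G} (hx : x * a * x⁻¹ = a * z)
    (hx' : x * z * x⁻¹ = z) (hy : y * z * y⁻¹ = z * a) (hy' : y * a * y⁻¹ = a) {l m : ZMod p} (hl : l * m = 1) :
    ∃ n ∈ N[(P : Subgroup G)], n * z * n⁻¹ = z ^ l.val ∧ (a ^ m.val)⁻¹ * (n * a * n⁻¹) ∈ zpowers z := by
  have red : ∀ {w : G} {i j : ℕ}, w ^ p = 1 → (i : ZMod p) = j → w ^ i = w ^ j := fun e1 e2 =>
    pow_eq_pow_of_modEq ((ZMod.natCast_eq_natCast_iff _ _ _).1 e2) e1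
  obtain ⟨e1, e2⟩ := pow_transv (κ := cj y) hy hy' (l - 1).val
  obtain ⟨e3, e4⟩ := pow_transv (κ := cj y) hy hy' (m - 1).val
  have e5 := act hc (cj x) (α := 1) (β := 0) (γ := 1) (δ := 1) (by simpa using hx') (by simpa [hc.eq] using hx)
  set g := y ^ (m - 1).val * x * y ^ (l - 1).val with hg
  have g1 : g * z * g⁻¹ = z ^ l.val := by
    change cj g z = _
    rw [hg, map_mul, map_mul, map_pow, map_pow, MulAut.mul_apply, MulAut.mul_apply, e1, e5, act hc _ e3 e4,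
      red (j := l.val) hz (by simp), red (j := 0) ha (by simp; linear_combination hl), pow_zero, mul_one]
  have g2 : g * a * g⁻¹ = a ^ m.val * z := by
    change cj g a = _
    rw [hg, map_mul, map_mul, map_pow, map_pow, MulAut.mul_apply, MulAut.mul_apply, e2, e5, act hc _ e3 e4,
      red (j := m.val) ha (by simp)]
    simpa using (hc.pow_right _).eq
  have hN : g ∈ N[zpowers z] := mem_norm_of_cj_le (by rw [cj_zpowers, g1]; exact zpowers_le.2 (npow_mem_zpowers _ _))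
  have haN : a ∈ N[zpowers z] := le_norm_zpowers_of_le_c1 le_rfl (mem_c1.2 hc.symm)
  have h1 : cj g • (P : Subgroup G) ≤ D a (zpowers z) := by
    refine (cj_mono g hP).trans ((D_conj hN).trans (g2 ▸ (D_mul (mem_zpowers z)).trans ?_))
    have := D_pow (pow_mem haN m.val) l.val
    rwa [← pow_mul, red (i := m.val * l.val) (j := 1) ha (by simp [mul_comm, hl]), pow_one] at this
  obtain ⟨d, hd, e⟩ := (isSylowIn_of_le P hP).exists_conj_le (isPGroup_cj.2 P.2) h1
  refine ⟨d * g, mem_norm_of_cj_le (by rwa [cj_mul]), ?_, ?_⟩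
  · rw [show d * g * z * (d * g)⁻¹ = d * (g * z * g⁻¹) * d⁻¹ by group, g1,
      ← mem_cent.1 hd.1 _ (npow_mem_zpowers _ _), mul_inv_cancel_right]
  · have := mul_mem (conj_mem_of_norm' (pow_mem haN m.val) (D_pow haN m.val hd).2) (mem_zpowers z)
    rw [show d * g * a * (d * g)⁻¹ = d * (g * a * g⁻¹) * d⁻¹ by group, g2, ← mul_assoc d, mul_assoc _ z,
      mem_cent.1 (inv_mem hd.1) z (mem_zpowers z)]
    convert this using 1
    group

theorem exists_transv {A : Type*} [Group A] [Finite A] {p : ℕ} [hp : Fact p.Prime] (hc : Nat.card A = p ^ 2)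
    {a z : A} (ha : orderOf a = p) (hz : z ∉ zpowers a) : ∃ τ : MulAut A, orderOf τ = p ∧ τ z = z * a ∧ τ a = a := by
  let _ := IsPGroup.commGroupOfCardEqPrimeSq hc
  have h1 : Nat.card (A ⧸ zpowers a) = p := Nat.eq_of_mul_eq_mul_right hp.out.pos (by
    rw [← sq, ← hc, card_eq_card_quotient_mul_card_subgroup (zpowers a), Nat.card_zpowers, ha])
  have h2 : (z : A ⧸ zpowers a) ≠ 1 := fun e => hz ((QuotientGroup.eq_one_iff z).1 e)
  have g1 : ∀ x, x ∈ zpowers (z : A ⧸ zpowers a) := fun _ => mem_zpowers_of_prime_card h1 h2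
  have g2 : orderOf a ∣ orderOf (z : A ⧸ zpowers a) := by rw [ha, orderOf_eq_card_of_forall_mem_zpowers g1, h1]
  let χ := (monoidHomOfForallMemZpowers g1 g2).comp (QuotientGroup.mk' (zpowers a))
  have h3 : χ z = a := monoidHomOfForallMemZpowers_apply_gen g1 g2
  have h4 : ∀ x ∈ zpowers a, χ x = 1 := fun x hx => by
    simp only [χ, MonoidHom.comp_apply, QuotientGroup.mk'_apply, (QuotientGroup.eq_one_iff x).2 hx, map_one]
  have h5 : ∀ x, χ x ∈ zpowers a := fun x => zpow_mem_zpowers _ _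
  let τ : MulAut A :=
    { toFun := fun x => x * χ x
      invFun := fun x => x * (χ x)⁻¹
      left_inv := fun x => by simp [h4 _ (h5 x)]
      right_inv := fun x => by simp [h4 _ (h5 x)]
      map_mul' := fun x y => by rw [map_mul, mul_mul_mul_comm] }
  have h6 : ∀ n x, (τ ^ n) x = x * χ x ^ n := fun n x => by
    induction n with
    | zero => simp
    | succ n ih =>
      rw [pow_succ', MulAut.mul_apply, ih]
      change x * χ x ^ n * χ (x * χ x ^ n) = _
      rw [map_mul, h4 _ (pow_mem (h5 x) n), mul_one, mul_assoc, pow_succ]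
  refine ⟨τ, orderOf_eq_prime (MulEquiv.ext fun x => ?_) fun e => ?_, congrArg (z * ·) h3,
    (congrArg (a * ·) (h4 a (mem_zpowers a))).trans (mul_one a)⟩
  · rw [h6, ← ha, orderOf_dvd_iff_pow_eq_one.1 (orderOf_dvd_of_mem_zpowers (h5 x)), mul_one]
    rfl
  · have : z * χ z = z := MulEquiv.congr_fun e z
    rw [h3, mul_eq_left] at this
    exact hp.out.one_lt.ne (by rw [← ha, this, orderOf_one])

end torus

section main
variable {G : Type*} [Group G] [Finite G] {p : ℕ} [hp : Fact p.Prime] {P : Sylow p G}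
  (H : Heis p P (Fin 2 → ZMod p)) (hZ : H.Z = center P)

/-- the action of `N(P)` on the planes. -/
noncomputable def rho : N[(P : Subgroup G)] →* PGL(2, ZMod p) :=
  ProjGenLinGroup.mk.comp ((GeneralLinearGroup.toLin.trans
    (LinearMap.GeneralLinearGroup.generalLinearEquiv _ _)).symm.toMonoidHom.comp
    ((H.lin hZ).comp (P : Subgroup G).normalizerMonoidHom))

theorem not_dvd : ¬ p ∣ Nat.card (rho H hZ).range := fun e => by
  rw [← index_ker] at e
  refine (P.subtype le_normalizer).not_dvd_index (e.trans (index_dvd_of_le fun x hx => ?_))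
  have : (P : Subgroup G).normalizerMonoidHom x = MulAut.conj ⟨x, hx⟩ := MulEquiv.ext fun _ => rfl
  simp [rho, this, H.lin_conj]

theorem exists_elt (hN : ∀ x, (∀ y, H.B x y = 0) → x = 0) {a : P} (ha : a ^ p = 1) (h0 : H.π a ≠ 0) {y : G}
    (hy : y * H.ι 1 * y⁻¹ = H.ι 1 * a) (hy' : y * a * y⁻¹ = a) (l : (ZMod p)ˣ) :
    ∃ t : (rho H hZ).range, orderOf (l ^ 3) ∣ orderOf t ∧
      (t : PGL(2, ZMod p)) • Projectivization.mk (ZMod p) (H.π a) h0 = Projectivization.mk (ZMod p) (H.π a) h0 := by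
  obtain ⟨w, hw⟩ : ∃ w, H.B w (H.π a) = 1 := by
    obtain ⟨w, hw⟩ := not_forall.1 (mt (hN _) h0)
    exact ⟨-(H.B (H.π a) w)⁻¹ • w, by rw [map_smul, LinearMap.smul_apply, H.B_swap w]; simp [hw]⟩
  have hz : ∀ {u : G}, u ∈ zpowers (H.ι 1 : G) ↔ ∃ s, u = H.ι s := by
    intro u
    rw [← (P : Subgroup G).subtype_apply, ← MonoidHom.map_zpowers, ← H.Z_eq_zpowers]
    exact ⟨fun ⟨v, hv, e⟩ => let ⟨s, e'⟩ := H.mem_Z_iff.1 hv; ⟨s, by rw [e', ← e]; rfl⟩,
      fun ⟨s, e⟩ => ⟨_, H.ι_mem_Z s, e.symm⟩⟩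
  obtain ⟨n, hn, e1, e2⟩ := torus P (a := (a : G)) (z := (H.ι 1 : G)) (congrArg Subtype.val (H.ι_comm 1 a).symm)
    (congrArg Subtype.val (H.ι_pow_p 1)) (congrArg Subtype.val ha) (fun x hx => ⟨mem_cent.2 fun u hu => by
      obtain ⟨s, rfl⟩ := hz.1 hu
      exact congrArg Subtype.val (H.ι_comm s ⟨x, hx⟩).symm, hz.2 ⟨_, congrArg Subtype.val (H.comm_eq ⟨x, hx⟩ a)⟩⟩)
    (x := (H.σ w : G)) (by have := H.conj_eq (H.σ w) a; rw [H.π_σ, hw] at this; exact congrArg Subtype.val this)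
    (by rw [mul_inv_eq_iff_eq_mul]; exact congrArg Subtype.val (H.ι_comm 1 _)) hy hy' l.mul_inv
  set φ := (P : Subgroup G).normalizerMonoidHom ⟨n, hn⟩ with hφ
  have m1 : H.mult φ = l := by
    rw [Heis.mult, show φ (H.ι 1) = H.ι l from Subtype.ext (e1.trans (by rw [H.ι_eq_pow_val l]; rfl)), H.lg_ι]
  have m2 : H.lin hZ φ (H.π a) = (l⁻¹ : (ZMod p)ˣ) • H.π a := by
    obtain ⟨s, e⟩ := hz.1 e2
    rw [H.lin_π, show φ a = a ^ ((l⁻¹ : (ZMod p)ˣ) : ZMod p).val * H.ι s from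
      Subtype.ext (inv_mul_eq_iff_eq_mul.1 e), H.π_mul_ι, H.π_pow_val]
    rfl
  refine ⟨⟨_, ⟨n, hn⟩, rfl⟩, orderOf_dvd_of_pow_eq_one ?_, ?_⟩
  · generalize hk : orderOf (⟨_, ⟨n, hn⟩, rfl⟩ : (rho H hZ).range) = k
    have e3 : rho H hZ (⟨n, hn⟩ ^ k) = 1 := by
      rw [map_pow]; exact congrArg Subtype.val (hk ▸ pow_orderOf_eq_one (⟨_, ⟨n, hn⟩, rfl⟩ : (rho H hZ).range))
    obtain ⟨c, hc⟩ := GeneralLinearGroup.mem_center_iff_val_mem_range_scalar.1 (ProjGenLinGroup.mk_eq_one.1 e3)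
    have e4 : ∀ v, H.lin hZ (φ ^ k) v = c • v := fun v => by
      have := congrArg (fun M => M *ᵥ v) hc
      simp only [scalar_apply, ← smul_one_eq_diagonal, smul_mulVec, one_mulVec] at this
      rw [this, hφ, ← map_pow]
      exact (LinearMap.toMatrix'_mulVec _ _).symm
    have e5 : ∀ k, H.mult (φ ^ k) = l ^ k ∧ H.lin hZ (φ ^ k) (H.π a) = (l⁻¹ ^ k : (ZMod p)ˣ) • H.π a := fun k => by
      induction k with
      | zero => simp [H.mult_one]
      | succ k ih => rw [pow_succ, H.mult_mul hZ, map_mul, LinearEquiv.mul_apply, m1, m2, ih.1, Units.smul_def,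
          map_smul, ih.2, pow_succ', pow_succ', mul_smul]; exact ⟨mul_comm _ _, rfl⟩
    have e6 := H.B_lin hZ (φ ^ k) w (H.π a)
    have e7 : c = (l⁻¹ ^ k : (ZMod p)ˣ) := smul_left_injective _ h0 ((e4 _).symm.trans (e5 k).2)
    simp only [e4, map_smul, LinearMap.smul_apply, hw, (e5 k).1, smul_eq_mul, mul_one, e7] at e6
    have e8 : l⁻¹ ^ k * l⁻¹ ^ k = l ^ k := Units.ext (by simpa using e6)
    rw [inv_pow] at e8
    rw [← pow_mul, pow_mul']
    generalize l ^ k = u at e8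
    rw [pow_succ' u, congrArg (· * u ^ 2) e8.symm]
    group
  · refine (Projectivization.PGL.mk_smul_mk _ _).trans ((Projectivization.mk_eq_mk_iff _ _ _ _ _).2 ⟨l⁻¹, ?_⟩)
    rw [← m2]
    exact (LinearMap.toMatrix'_mulVec _ _).symm

include hZ in
theorem bound (hN : ∀ x, (∀ y, H.B x y = 0) → x = 0) (he : ∀ a : P, a ^ p = 1) {X : Finset (P1 (ZMod p))}
    (h : ∀ x ∈ X, ∃ (a : P) (h0 : H.π a ≠ 0), x = Projectivization.mk (ZMod p) (H.π a) h0 ∧
      ∃ y : G, y * H.ι 1 * y⁻¹ = H.ι 1 * a ∧ y * a * y⁻¹ = a) : p ≤ 7 ∨ X.card ≤ 2 ∨ (p = 13 ∧ X.card ≤ 6) := by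
  obtain ⟨l, hl⟩ := IsCyclic.exists_ofOrder_eq_natCard (α := (ZMod p)ˣ)
  rw [Nat.card_eq_fintype_card, ZMod.card_units] at hl
  have h2 : orderOf (l ^ 3) * Nat.gcd (p - 1) 3 = p - 1 := by
    rw [orderOf_pow, hl, Nat.div_mul_cancel (Nat.gcd_dvd_left _ _)]
  refine (le_or_gt p 7).imp_right fun h7 => ?_
  have h3 : 11 ≤ p ∧ p ≠ 16 := by
    have := hp.out
    refine ⟨le_of_not_gt fun e => ?_, ?_⟩
    · interval_cases p <;> norm_num at this
    · rintro rfl
      norm_num at this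
  have h4 := (Nat.dvd_prime Nat.prime_three).1 (Nat.gcd_dvd_right (p - 1) 3)
  refine (card_le p (rho H hZ).range (not_dvd H hZ) (n := orderOf (l ^ 3)) ?_ ?_ fun x hx => ?_).imp_right
    fun e => ⟨?_, e.2⟩
  · rcases h4 with e | e <;> rw [e] at h2 <;> omega
  · rcases h4 with e | e <;> rw [e] at h2 <;> omega
  · obtain ⟨a, h0, rfl, y, e1, e2⟩ := h x hx
    exact exists_elt H hZ hN (he a) h0 e1 e2 l
  · rcases h4 with e | e <;> rw [e] at h2 <;> omega

end main

end CL.XP3
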